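import Cfsg.Agent.HSMult13.Data
import Cfsg.Agent.Lib.Leech.HSGraphSimple
import Cfsg.Agent.Lib.CosetEnum.Glue

/-!
Seven involutions generating the even automorphisms of the Higman–Sims graph.
-/

set_option autoImplicit false
set_option maxRecDepth 100000

namespace Cfsg.Agent.HSMult13

open Cfsg Cfsg.Agent.CosetEnum Cfsg.Agent.SporStruct.HSGraph Cfsg.Agent.Leech.HSAut

/-- The group. -/
abbrev G := ↥chi.ker

theorem card_G : Nat.card G = 44352000 := card_even

instance finite_G : Finite G := Nat.finite_of_card_ne_zero (by rw [card_G]; norm_num)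

/-- The action on the numbers of the vertices. -/
noncomputable def gp : G →* Equiv.Perm (Fin 100) := rho.comp chi.ker.subtype

theorem gp_injective : Function.Injective gp := fun _ _ h => Subtype.ext (rho_injective h)

/-- Look up in a packed table. -/
def app (t i : ℕ) : ℕ := Nat.land (Nat.shiftRight t (7 * i)) 127

/-- Apply a word. -/
def runW (W : List ℕ) (i : ℕ) : ℕ := W.foldr (fun l x => app (packs.getD l 0) x) i

/-- The swaps of a list applied to a number. -/
def swapApp (L : List (ℕ × ℕ)) (i : ℕ) : ℕ :=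
  L.foldl (fun z x => if z = x.1 then x.2 else if z = x.2 then x.1 else z) i

theorem tabs_facts : ∀ l < 7, tabAutCheck (tabs.getD l []) = true ∧
    (swapss.getD l []).length % 2 = 0 ∧
    ((swapss.getD l []).all fun x => decide (x.1 < 100 ∧ x.2 < 100 ∧ x.1 ≠ x.2)) = true ∧
    ((List.range 100).all fun i => app (packs.getD l 0) i == (tabs.getD l []).getD i 0 &&
      swapApp (swapss.getD l []) i == (tabs.getD l []).getD i 0) = true := by
  decide +kernel

/-- A list of swaps of natural numbers, on `Fin 100`. -/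
def finSwaps (L : List (ℕ × ℕ)) : List (Fin 100 × Fin 100) :=
  L.map fun x => (Fin.ofNat 100 x.1, Fin.ofNat 100 x.2)

theorem finSwaps_apply : ∀ (L : List (ℕ × ℕ)), (∀ x ∈ L, x.1 < 100 ∧ x.2 < 100) → ∀ i : Fin 100,
    ((finSwaps L).foldl (fun (z : Fin 100) (x : Fin 100 × Fin 100) =>
      if z = x.1 then x.2 else if z = x.2 then x.1 else z) i).val = swapApp L i.val
  | [], _, i => rfl
  | x :: L, h, i => by
    obtain ⟨h1, h2⟩ := h x List.mem_cons_self
    rw [show finSwaps (x :: L) = (Fin.ofNat 100 x.1, Fin.ofNat 100 x.2) :: finSwaps L from rfl,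
      List.foldl_cons, finSwaps_apply L fun y hy => h y (List.mem_cons_of_mem _ hy)]
    show swapApp L _ = swapApp L (if i.val = x.1 then x.2 else if i.val = x.2 then x.1 else i.val)
    congr 1
    simp only [Fin.ext_iff, Fin.val_ofNat, Nat.mod_eq_of_lt h1, Nat.mod_eq_of_lt h2]
    split_ifs <;> simp [Nat.mod_eq_of_lt h1, Nat.mod_eq_of_lt h2]

theorem exists_gen : ∀ l < 7, ∃ g : G, ∀ i : Fin 100, (gp g i : ℕ) = app (packs.getD l 0) i := by
  intro l hl
  obtain ⟨h1, h2, h3, h4⟩ := tabs_facts l hl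
  simp only [List.all_eq_true, List.mem_range, decide_eq_true_eq, Bool.and_eq_true, beq_iff_eq] at h3 h4
  obtain ⟨f, hf⟩ := exists_aut_of_tab h1
  have hv : ∀ i : Fin 100, (rho f i : ℕ) = (tabs.getD l []).getD i 0 := by
    intro i
    obtain ⟨j, hj, hfj⟩ := hf i
    show ((vE.symm (f (vtx i))) : ℕ) = _
    rw [hfj]
    exact (congrArg Fin.val (vE.symm_apply_apply j)).trans hj
  have he : rho f = (((finSwaps (swapss.getD l [])).reverse).map fun x => Equiv.swap x.1 x.2).prod := by
    refine Equiv.ext fun i => Fin.ext ?_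
    rw [prod_apply, hv, finSwaps_apply _ fun x hx => ⟨(h3 x hx).1, (h3 x hx).2.1⟩, (h4 i i.2).2]
  have hf1 : chi f = 1 := by
    show Equiv.Perm.sign (rho f) = 1
    rw [he, Equiv.Perm.sign_prod_list_swap, List.length_map, List.length_reverse, finSwaps,
      List.length_map]
    · exact Even.neg_one_pow (Nat.even_iff.2 h2)
    · intro σ hσ
      obtain ⟨x, hx, rfl⟩ := List.mem_map.1 hσ
      obtain ⟨y, hy, rfl⟩ := List.mem_map.1 (List.mem_reverse.1 hx)
      refine ⟨_, _, fun e => (h3 y hy).2.2 ?_, rfl⟩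
      have := congrArg Fin.val e
      simpa [Nat.mod_eq_of_lt (h3 y hy).1, Nat.mod_eq_of_lt (h3 y hy).2.1] using this
  refine ⟨⟨f, hf1⟩, fun i => ?_⟩
  show (rho f i : ℕ) = _
  rw [hv, (h4 i i.2).1]

/-- The generators. -/
noncomputable def ga (l : ℕ) : G := if h : l < 7 then (exists_gen l h).choose else 1

theorem gp_ga {l : ℕ} (hl : l < 7) (i : Fin 100) : (gp (ga l) i : ℕ) = app (packs.getD l 0) i := by
  rw [ga, dif_pos hl]
  exact (exists_gen l hl).choose_spec i

theorem gp_word : ∀ W : List ℕ, (∀ l ∈ W, l < 7) → ∀ i : Fin 100,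
    (gp (evalWord ga W) i : ℕ) = runW W i
  | [], _, i => by simp [evalWord, runW]
  | l :: W, h, i => by
    show (gp (ga l * evalWord ga W) i : ℕ) = app (packs.getD l 0) (runW W i)
    rw [map_mul, Equiv.Perm.mul_apply, gp_ga (h l List.mem_cons_self),
      gp_word W fun x hx => h x (List.mem_cons_of_mem _ hx)]

/-- The letters of a word are in range. -/
def letOK (W : List ℕ) : Bool := W.all fun l => decide (l < 7)

theorem letOK_lt {W : List ℕ} (h : letOK W = true) : ∀ l ∈ W, l < 7 := by
  simpa [letOK] using h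

/-- Two words have the same action. -/
def eqW (W V : List ℕ) : Bool :=
  letOK W && letOK V && (List.range 100).all fun i => runW W i == runW V i

theorem eq_of_eqW {W V : List ℕ} (h : eqW W V = true) : evalWord ga W = evalWord ga V := by
  simp only [eqW, Bool.and_eq_true, List.all_eq_true, List.mem_range, beq_iff_eq] at h
  refine gp_injective (Equiv.ext fun i => Fin.ext ?_)
  rw [gp_word W (letOK_lt h.1.1), gp_word V (letOK_lt h.1.2)]
  exact h.2 i i.2

/-- Two words have different actions. -/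
def neW (W V : List ℕ) : Bool :=
  letOK W && letOK V && (List.range 100).any fun i => runW W i != runW V i

theorem ne_of_neW {W V : List ℕ} (h : neW W V = true) : evalWord ga W ≠ evalWord ga V := by
  simp only [neW, Bool.and_eq_true, List.any_eq_true, List.mem_range, bne_iff_ne] at h
  obtain ⟨⟨hW, hV⟩, i, hi, hne⟩ := h
  intro e
  apply hne
  rw [← gp_word W (letOK_lt hW) ⟨i, hi⟩, ← gp_word V (letOK_lt hV) ⟨i, hi⟩, e]

theorem sq_check : ((List.range 7).all fun l => eqW [l, l] []) = true := by decide +kernel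

theorem ga_sq (l : ℕ) : ga l * ga l = 1 := by
  by_cases hl : l < 7
  · have h := eq_of_eqW (List.all_eq_true.1 sq_check l (List.mem_range.2 hl))
    simpa [evalWord] using h
  · rw [ga, dif_neg hl, one_mul]

theorem evalWord_reverse : ∀ W : List ℕ, evalWord ga W.reverse = (evalWord ga W)⁻¹
  | [] => by simp [evalWord]
  | l :: W => by
    rw [List.reverse_cons, evalWord_append, evalWord_reverse W]
    show _ * (ga l * 1) = (ga l * evalWord ga W)⁻¹
    rw [mul_one, mul_inv_rev, inv_eq_of_mul_eq_one_left (ga_sq l)]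

/-- A spanning tree of an orbit. -/
def treeStep (ws : List (List ℕ)) : List ℕ → List (ℕ × ℕ × ℕ) → Bool
  | _, [] => true
  | seen, (x, p, k) :: r =>
    decide (p ∈ seen ∧ x ∉ seen ∧ x < 100 ∧ k < ws.length) && runW (ws.getD k []) p == x &&
      treeStep ws (x :: seen) r

/-- A base with strong generators. -/
def levelsOK : List ℕ → List (ℕ × List (List ℕ) × List (ℕ × ℕ × ℕ)) → Bool
  | _, [] => true
  | prev, (b, ws, seq) :: r =>
    decide (b < 100) && (ws.all fun W => letOK W && prev.all fun p => runW W p == p) &&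
      treeStep ws [b] seq && levelsOK (b :: prev) r

theorem treeStep_spec (ws : List (List ℕ)) (H : Subgroup (Equiv.Perm (Fin 100))) (b : Fin 100)
    (hw : ∀ k < ws.length, gp (evalWord ga (ws.getD k [])) ∈ H ∧ letOK (ws.getD k []) = true) :
    ∀ (seq : List (ℕ × ℕ × ℕ)) (seen : List ℕ), treeStep ws seen seq = true → seen.Nodup →
      (∀ x ∈ seen, ∃ g ∈ H, (g b : ℕ) = x) →
      ∃ pts : List ℕ, pts.Nodup ∧ pts.length = seen.length + seq.length ∧
        ∀ x ∈ pts, ∃ g ∈ H, (g b : ℕ) = x
  | [], seen, _, hn, hs => ⟨seen, hn, rfl, hs⟩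
  | (x, p, k) :: r, seen, h, hn, hs => by
    simp only [treeStep, Bool.and_eq_true, decide_eq_true_eq, beq_iff_eq] at h
    obtain ⟨⟨⟨hp, hx, -, hk⟩, hrun⟩, hr⟩ := h
    obtain ⟨pts, h1, h2, h3⟩ := treeStep_spec ws H b hw r (x :: seen) hr
      (List.nodup_cons.2 ⟨hx, hn⟩) (by
        intro y hy
        rcases List.mem_cons.1 hy with rfl | hy
        · obtain ⟨g, hg, hgp⟩ := hs p hp
          refine ⟨gp (evalWord ga (ws.getD k [])) * g, mul_mem (hw k hk).1 hg, ?_⟩
          rw [Equiv.Perm.mul_apply, gp_word _ (letOK_lt (hw k hk).2), hgp, hrun]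
        · exact hs y hy)
    exact ⟨pts, h1, by rw [h2, List.length_cons, List.length_cons]; omega, h3⟩

theorem card_ge_levels : ∀ (Ls : List (ℕ × List (List ℕ) × List (ℕ × ℕ × ℕ))) (prev : List ℕ)
    (H : Subgroup (Equiv.Perm (Fin 100))), levelsOK prev Ls = true →
    (∀ W, letOK W = true → (∀ p ∈ prev, runW W p = p) → gp (evalWord ga W) ∈ H) →
    (Ls.map fun L => L.2.2.length + 1).prod ≤ Nat.card H
  | [], _, H, _, _ => Nat.card_pos
  | (b, ws, seq) :: Ls, prev, H, h, hH => by
    simp only [levelsOK, Bool.and_eq_true, decide_eq_true_eq, List.all_eq_true, beq_iff_eq] at h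
    obtain ⟨⟨⟨hb, hws⟩, hseq⟩, hrest⟩ := h
    let b' : Fin 100 := ⟨b, hb⟩
    obtain ⟨pts, hn, hlen, hpts⟩ := treeStep_spec ws H b' (fun k hk => by
        have hm : ws.getD k [] ∈ ws := by rw [List.getD_eq_getElem _ _ hk]; exact List.getElem_mem hk
        exact ⟨hH _ (hws _ hm).1 (hws _ hm).2, (hws _ hm).1⟩)
      seq [b] hseq (List.nodup_singleton b) (fun x hx => ⟨1, one_mem H, by
        rw [List.mem_singleton] at hx
        rw [hx]; rfl⟩)
    have hlt : ∀ x ∈ pts, x < 100 := fun x hx => by
      obtain ⟨g, -, hg⟩ := hpts x hx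
      rw [← hg]; exact (g b').2
    have hstep := Glue.card_step (G := Equiv.Perm (Fin 100)) H b'
      (pts.pmap (fun x h => (⟨x, h⟩ : Fin 100)) hlt)
      (hn.pmap fun _ _ _ _ e => congrArg Fin.val e) (fun y hy => by
        obtain ⟨x, hx, rfl⟩ := List.mem_pmap.1 hy
        obtain ⟨g, hg, hgx⟩ := hpts x hx
        exact ⟨g, hg, Fin.ext hgx⟩)
    have ih := card_ge_levels Ls (b :: prev) (H ⊓ MulAction.stabilizer (Equiv.Perm (Fin 100)) b')
      hrest (fun W hW hp => ⟨hH W hW fun p hp' => hp p (List.mem_cons_of_mem _ hp'), Fin.ext (by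
        show (gp (evalWord ga W) b' : ℕ) = b
        rw [gp_word W (letOK_lt hW)]
        exact hp b List.mem_cons_self)⟩)
    rw [List.map_cons, List.prod_cons]
    refine le_trans ?_ hstep
    rw [List.length_pmap, hlen, List.length_singleton, Nat.add_comm 1]
    exact Nat.mul_le_mul_left _ ih

theorem levels_ok : levelsOK [] levels = true ∧
    (levels.map fun L => L.2.2.length + 1).prod = 44352000 := by
  decide +kernel

theorem closure_ga : Subgroup.closure (ga '' Set.Iio 7) = ⊤ := by
  apply Subgroup.eq_top_of_le_card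
  rw [card_G, ← levels_ok.2]
  refine le_trans ?_ (le_of_eq (Nat.card_congr (Subgroup.equivMapOfInjective _ _ gp_injective).toEquiv).symm)
  refine card_ge_levels levels [] _ levels_ok.1 fun W hW _ => Subgroup.mem_map_of_mem _ ?_
  have hl := letOK_lt hW
  clear hW
  induction W with
  | nil => exact one_mem _
  | cons l W ih =>
    exact mul_mem (Subgroup.subset_closure ⟨l, hl l List.mem_cons_self, rfl⟩)
      (ih (fun p hp => by cases hp) fun x hx => hl x (List.mem_cons_of_mem _ hx))

end Cfsg.Agent.HSMult13
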