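import Cfsg.Agent.Lib.CosetEnum.Bound

/-!
Generated coset enumeration certificate of level 1.
-/

set_option autoImplicit false
set_option maxRecDepth 100000

namespace Cfsg.Agent.HSMult13

open Cfsg.Agent.CosetEnum

def rels1 : List (List ℕ) :=
  [[0, 1, 0, 1, 0, 1, 0, 1, 0, 1]]

def subs1 : List (List ℕ) := []

/-- The enumeration. -/
def sys1 : Sys where
  nl := 2
  invs := 2080
  facts := (.leaf 0x200010000120000090000700000400003040001c0001420000c000080000050000300000200001040000c000042000040000000000100000)
  rules := (.leaf ⟨1, [0, 1, 0, 1, 0], [1, 0, 1, 0], false, 0, 0⟩)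

theorem rules1 : sys1.rules.all (fun R => R.check sys1 rels1 subs1) = true := by decide +kernel

theorem invs1 : allRange (fun l => Nat.beq (sys1.inv l) l) 0 (2 + 1) = true := by decide +kernel

theorem defs1_0 : allRange sys1.checkDef 0 9 = true := by decide +kernel

theorem facts1_0 : sys1.checkFacts 9 1 0xe0000a000060000200004000100000c000080000400000000050000000000 = true := by decide +kernel

theorem rows1_0 : sys1.checkRows 10 10 0 10 0x1200001000110000100013000010000f000010000d0000100010000010000b000010000e000010000c0000100009000010000a00001000070000100005000010000800001000030000100006000010000400001000010000100002000010000000001 = true := by decide +kernel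

theorem cert1 : Cert sys1 10 9 10 :=
  Cert.of_chunks (S := sys1) [9]
    [(1, 0xe0000a000060000200004000100000c000080000400000000050000000000)]
    [(10, 0x1200001000110000100013000010000f000010000d0000100010000010000b000010000e000010000c0000100009000010000a00001000070000100005000010000800001000030000100006000010000400001000010000100002000010000000001)]
    (by norm_num)
    ⟨defs1_0, trivial⟩ rfl
    ⟨facts1_0, trivial⟩ rfl
    ⟨rows1_0, trivial⟩ rfl

end Cfsg.Agent.HSMult13
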