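import Cfsg.Agent.Lib.CosetEnum.Bound

/-!
Generated coset enumeration certificate of level 2.
-/

set_option autoImplicit false
set_option maxRecDepth 100000

namespace Cfsg.Agent.HSMult13

open Cfsg.Agent.CosetEnum

def rels2 : List (List ℕ) :=
  [[0, 2, 0, 2], [1, 2, 1, 2, 1, 2], [0, 1, 0, 1, 0, 1, 0, 1, 0, 1], [0, 1, 2, 0, 1, 2, 0, 1, 2, 0, 1, 2, 0, 1, 2]]

def subs2 : List (List ℕ) := [[0], [1]]

/-- The enumeration. -/
def sys2 : Sys where
  nl := 3
  invs := 100384
  facts := (.leaf 0x10000280002080000c0000c20000a0000a2000020000200000080000840000000000000000000000000050000408000200001800000c000082000040000220000100000)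
  rules := (.node 3
    (.node 1
    (.leaf ⟨0, [], [], true, 0, 0⟩)
    (.node 1
    (.leaf ⟨1, [], [], true, 0, 0⟩)
    (.leaf ⟨0, [0, 2], [2], false, 0, 0⟩)))
    (.node 2
    (.node 1
    (.leaf ⟨2, [1, 2, 1], [2, 1], false, 1, 0⟩)
    (.leaf ⟨1, [0, 1, 0, 1, 0], [1, 0, 1, 0], false, 2, 0⟩))
    (.node 1
    (.leaf ⟨2, [0], [2, 0], false, 0, 0⟩)
    (.leaf ⟨2, [0, 1], [2, 1, 0, 2, 1, 0, 2, 1, 0, 2, 1, 0], false, 3, 0⟩))))

theorem rules2 : sys2.rules.all (fun R => R.check sys2 rels2 subs2) = true := by decide +kernel

theorem invs2 : allRange (fun l => Nat.beq (sys2.inv l) l) 0 (3 + 1) = true := by decide +kernel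

theorem defs2_0 : allRange sys2.checkDef 0 5 = true := by decide +kernel

theorem facts2_0 : sys2.checkFacts 5 7 0x800006000140000400002000000000a0000c000010000e00003000100000c0000600004000020000200006000040001000002000040000100002000050000800006000040000200004000080000600004000020000e00005000010000400002000000000200002000000000c0000300000000030000000001000000000a0000200000000020000000000000000000100000000000000000000 = true := by decide +kernel

theorem rows2_0 : sys2.checkRows 6 12 0 6 0x170000100012000010000900001000160000100007000010000800001000140000100006000010000500001000100000100003000010000400001000010000100002000010000e0000100000000010000c000010000a00001 = true := by decide +kernel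

theorem cert2 : Cert sys2 6 5 12 :=
  Cert.of_chunks (S := sys2) [5]
    [(7, 0x800006000140000400002000000000a0000c000010000e00003000100000c0000600004000020000200006000040001000002000040000100002000050000800006000040000200004000080000600004000020000e00005000010000400002000000000200002000000000c0000300000000030000000001000000000a0000200000000020000000000000000000100000000000000000000)]
    [(6, 0x170000100012000010000900001000160000100007000010000800001000140000100006000010000500001000100000100003000010000400001000010000100002000010000e0000100000000010000c000010000a00001)]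
    (by norm_num)
    ⟨defs2_0, trivial⟩ rfl
    ⟨facts2_0, trivial⟩ rfl
    ⟨rows2_0, trivial⟩ rfl

end Cfsg.Agent.HSMult13
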