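import Cfsg.Agent.Lib.CosetEnum.Bound

/-!
Generated coset enumeration certificate of level 3.
-/

set_option autoImplicit false
set_option maxRecDepth 100000

namespace Cfsg.Agent.HSMult13

open Cfsg.Agent.CosetEnum

def rels3 : List (List ℕ) :=
  [[2, 3, 2, 3], [1, 3, 1, 3, 1, 3], [1, 2, 1, 2, 1, 3, 1, 2, 1, 2, 1, 3], [0, 1, 0, 1, 3, 1, 2, 0, 1, 0, 1, 3, 1, 2], [0, 1, 0, 1, 0, 1, 0, 1, 0, 1], [1, 2, 3, 2, 3, 1, 2, 3, 2, 3], [0, 1, 3, 0, 1, 3, 0, 1, 3, 0, 1, 3], [0, 1, 3, 0, 2, 3, 0, 1, 3, 0, 2, 3]]

def subs3 : List (List ℕ) := [[0], [1], [2]]

/-- The enumeration. -/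
def sys3 : Sys where
  nl := 4
  invs := 4294688
  facts := (.leaf 0x20000500003180001800028c00010000108000020000c00000500004080002000020c000080000840000200002200000000000800000000000000000000000000c000021000050000310000200001000000c000082000040000230000100000)
  rules := (.node 5
    (.node 2
    (.node 1
    (.leaf ⟨0, [], [], true, 0, 0⟩)
    (.leaf ⟨1, [], [], true, 0, 0⟩))
    (.node 1
    (.leaf ⟨2, [], [], true, 0, 0⟩)
    (.node 1
    (.leaf ⟨2, [2, 3], [3], false, 0, 0⟩)
    (.leaf ⟨3, [1, 3, 1], [3, 1], false, 1, 0⟩))))
    (.node 3
    (.node 1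
    (.leaf ⟨1, [1, 2, 1, 2, 1, 3, 1, 2], [3, 1, 2], false, 2, 0⟩)
    (.node 1
    (.leaf ⟨0, [0, 1, 0, 1, 3, 1, 2], [2, 1, 3, 1, 0, 1], false, 3, 0⟩)
    (.leaf ⟨4, [0], [1, 0, 1, 0, 1, 0, 1, 0, 1], false, 4, 0⟩)))
    (.node 1
    (.leaf ⟨3, [1, 2], [3, 2, 3, 2, 1, 3, 2], false, 5, 0⟩)
    (.node 1
    (.leaf ⟨3, [0, 1, 3, 0, 1], [3, 1, 0, 3, 1, 0], false, 6, 0⟩)
    (.leaf ⟨2, [0, 1, 3, 0], [3, 2, 0, 3, 1, 0, 3], false, 7, 0⟩)))))

theorem rules3 : sys3.rules.all (fun R => R.check sys3 rels3 subs3) = true := by decide +kernel

theorem invs3 : allRange (fun l => Nat.beq (sys3.inv l) l) 0 (4 + 1) = true := by decide +kernel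

theorem defs3_0 : allRange sys3.checkDef 0 6 = true := by decide +kernel

theorem facts3_0 : sys3.checkFacts 6 11 0x1f0000400002000000000c0001000001000070000400014000020001a0000a00005000010000a0000400002000000000c0000e0000100006000080000400014000020001a0000a00006000010000900006000140000200012000000001000001000070000600002000020000100008000030000500009000180001600019000080000400002000090000a000010000100007000080000400002000000000e00010000060000600002000000000e0000c0000e0000c000070000000006000060000200000000030000600002000000000e000100000e000100000e00008000000000500002000000000200002000000000e00003000000000400000000010000000010000020000000003000000000000000000020000000000000000000100000000000000000000 = true := by decide +kernel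

theorem rows3_0 : sys3.checkRows 6 17 0 6 0x1e000010002100001000090000100019000010001c000010000700001000160000100018000010001f0000100020000010000800001000050000100014000010000600001000030000100004000010000100001000120000100002000010001a0000a00002000000000100010000010000e000010000c00001 = true := by decide +kernel

theorem cert3 : Cert sys3 6 6 17 :=
  Cert.of_chunks (S := sys3) [6]
    [(11, 0x1f0000400002000000000c0001000001000070000400014000020001a0000a00005000010000a0000400002000000000c0000e0000100006000080000400014000020001a0000a00006000010000900006000140000200012000000001000001000070000600002000020000100008000030000500009000180001600019000080000400002000090000a000010000100007000080000400002000000000e00010000060000600002000000000e0000c0000e0000c000070000000006000060000200000000030000600002000000000e000100000e000100000e00008000000000500002000000000200002000000000e00003000000000400000000010000000010000020000000003000000000000000000020000000000000000000100000000000000000000)]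
    [(6, 0x1e000010002100001000090000100019000010001c000010000700001000160000100018000010001f0000100020000010000800001000050000100014000010000600001000030000100004000010000100001000120000100002000010001a0000a00002000000000100010000010000e000010000c00001)]
    (by norm_num)
    ⟨defs3_0, trivial⟩ rfl
    ⟨facts3_0, trivial⟩ rfl
    ⟨rows3_0, trivial⟩ rfl

end Cfsg.Agent.HSMult13
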