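import Mathlib

/-!
Generated tables: seven involutions, strong generators, and witnesses.
-/

set_option autoImplicit false
set_option maxRecDepth 100000

namespace Cfsg.Agent.HSMult13

/-- Seven involutions. -/
def tabs : List (List ℕ) :=
  [[65, 1, 87, 12, 83, 55, 60, 94, 91, 61, 58, 50, 3, 84, 90, 15, 48, 17, 33, 35, 24, 21, 27, 36, 20, 25, 28, 22, 26, 29, 38, 32, 31, 18, 34, 19, 23, 37, 30, 39, 44, 80, 53, 51, 40, 45, 79, 59, 16, 85, 11, 43, 52, 42, 82, 5, 56, 89, 10, 47, 6, 9, 93, 66, 64, 0, 63, 72, 68, 77, 95, 96, 67, 73, 76, 97, 74, 69, 78, 46, 41, 81, 54, 4, 13, 49, 92, 2, 88, 57, 14, 8, 86, 62, 7, 70, 71, 75, 98, 99],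
   [71, 1, 34, 27, 80, 5, 82, 40, 38, 19, 85, 11, 83, 56, 93, 94, 53, 58, 51, 9, 42, 21, 32, 57, 61, 62, 52, 3, 46, 29, 45, 41, 22, 33, 2, 48, 36, 47, 8, 89, 7, 31, 20, 81, 44, 30, 28, 37, 35, 49, 84, 18, 26, 16, 88, 87, 13, 23, 17, 92, 60, 24, 25, 73, 64, 65, 97, 98, 68, 69, 74, 0, 77, 63, 70, 75, 76, 72, 96, 79, 4, 43, 6, 12, 50, 10, 86, 55, 54, 39, 90, 91, 59, 14, 15, 99, 78, 66, 67, 95],
   [71, 1, 80, 53, 94, 19, 38, 83, 93, 9, 58, 11, 42, 85, 82, 34, 32, 56, 51, 5, 40, 21, 27, 47, 44, 25, 26, 22, 28, 52, 60, 48, 16, 43, 15, 55, 59, 39, 6, 37, 20, 87, 12, 33, 24, 45, 79, 23, 31, 84, 50, 18, 29, 3, 90, 35, 17, 89, 10, 36, 30, 61, 91, 63, 73, 96, 66, 74, 68, 69, 95, 0, 76, 64, 67, 97, 72, 77, 78, 46, 2, 81, 14, 7, 49, 13, 86, 41, 88, 57, 54, 62, 92, 8, 4, 70, 65, 75, 99, 98],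
   [23, 1, 2, 3, 5, 4, 6, 55, 90, 66, 99, 77, 42, 85, 62, 97, 44, 70, 51, 94, 48, 81, 73, 0, 32, 88, 26, 64, 28, 46, 60, 40, 24, 33, 75, 83, 96, 57, 38, 89, 31, 87, 12, 43, 16, 45, 29, 71, 20, 49, 69, 18, 79, 53, 93, 7, 95, 37, 98, 65, 30, 63, 14, 61, 27, 59, 9, 74, 68, 50, 17, 47, 72, 22, 67, 34, 76, 11, 78, 52, 80, 21, 91, 35, 84, 13, 86, 41, 25, 39, 8, 82, 92, 54, 19, 56, 36, 15, 58, 10],
   [0, 1, 7, 21, 4, 22, 10, 2, 13, 18, 6, 11, 15, 8, 14, 12, 19, 17, 9, 16, 20, 3, 5, 96, 83, 69, 29, 27, 68, 26, 85, 97, 32, 87, 73, 48, 89, 47, 72, 39, 63, 81, 44, 66, 42, 82, 46, 37, 35, 70, 90, 53, 52, 51, 99, 55, 77, 92, 60, 78, 58, 94, 62, 40, 80, 65, 43, 95, 28, 25, 49, 86, 38, 34, 74, 75, 93, 56, 59, 79, 64, 41, 45, 24, 84, 30, 71, 33, 98, 36, 50, 91, 57, 76, 61, 67, 23, 31, 88, 54],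
   [0, 2, 1, 3, 5, 4, 6, 22, 8, 19, 11, 10, 12, 13, 17, 18, 16, 14, 15, 9, 21, 20, 7, 23, 87, 88, 26, 79, 43, 83, 47, 40, 41, 33, 34, 46, 82, 50, 86, 89, 31, 32, 42, 28, 44, 84, 35, 30, 81, 49, 37, 97, 64, 68, 74, 73, 65, 69, 98, 95, 71, 63, 70, 61, 52, 56, 94, 93, 53, 57, 62, 60, 92, 55, 54, 75, 76, 99, 78, 27, 80, 48, 36, 29, 45, 85, 38, 24, 25, 39, 90, 96, 72, 67, 66, 59, 91, 51, 58, 77],
   [89, 1, 2, 76, 75, 34, 33, 70, 54, 66, 58, 63, 67, 41, 14, 19, 24, 55, 51, 15, 40, 25, 22, 39, 16, 21, 26, 27, 28, 59, 60, 48, 44, 6, 5, 56, 52, 47, 43, 23, 20, 13, 74, 38, 32, 45, 65, 37, 31, 49, 69, 18, 36, 72, 8, 17, 35, 71, 10, 29, 30, 77, 62, 11, 64, 46, 9, 12, 68, 50, 7, 57, 53, 73, 42, 4, 3, 61, 78, 96, 80, 88, 82, 95, 84, 87, 86, 85, 81, 0, 93, 91, 92, 90, 97, 83, 79, 94, 99, 98]]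

/-- The packed tables. -/
def packs : List ℕ :=
  [0xc78a5c78c1df561039cd8057188d08da8a95d3a2cac3324c3c17e6c490fc04085744865e2acb80b49534562ea90773d6a866d682c4e79297268891f4098e9a2c70c94486ca9846848b01f6aa0364e9edbbcf1bd3195c0c1,
   0xbf0e14ec63c73bb7693b66f5853218195849f8244c9719fcd012a2c4c5860c09264c3cb844b8daf6081a25518a34a70f2ca250f87b2217a4600909652b4eae06d1f3d7280aaa12cdd35bd75c5317549a651482d036880c7,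
   0xc58e5c18c1045c7cd9cd853586b10e3a8825d3a6c8c30e04c017e2c4950b0497f6de9e482ac91476819d24caa1f2f3d6984232b944a193bb6e3d59060f1a1c2c68cac5e6caa80acdc20454aaaa16e84dda6989de6b400c7,
   0x14e87a4704db5ca42139953586d4476cad069385cc450cb485e459449425d9b7a39f9e83892df0f75acf25158948e756905632b9fb299ce0a72d09850f171c806ac2001268b0bcce32cc2faaaa9b8e15a6e182050608097,
   0x6d60f9786f6639b6c9262431cf5430b54c09eedc5d9729126acc4c9cbeae0d050faf3a9cf2e4d6f8d9b46b6a3234aba92a84b28bf4f217d96126ba0c354d4436762d3c0141942024893183840f161890d0428b042a1c080,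
   0x9ae99db770a1c8c169399309aaad3a91850373b1cc96d9bdc78f9cb5bb79c347b19fc7bf8a2c1932a240c2958d13c8ea2c38a901fb3599525c890a950be9ab9e6ac572e1ca15123c710244468c142c9882c182050604100,
   0xc58ef4fa786d5cb774051ab5abd4bf4ac50c139e8308aa4b5721d944182574016fa69e3a2a3a32222424251589f4b056a04d286942ead7b4701432c60f1d9c3668a904e58ca81ecdb9826394c37eea1368c8514b98080d9]

/-- Transpositions. -/
def swapss : List (List (ℕ × ℕ)) :=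
  [[(0, 65), (2, 87), (3, 12), (4, 83), (5, 55), (6, 60), (7, 94), (8, 91), (9, 61), (10, 58), (11, 50), (13, 84), (14, 90), (16, 48), (18, 33), (19, 35), (20, 24), (22, 27), (23, 36), (26, 28), (30, 38), (31, 32), (40, 44), (41, 80), (42, 53), (43, 51), (46, 79), (47, 59), (49, 85), (54, 82), (57, 89), (62, 93), (63, 66), (67, 72), (69, 77), (70, 95), (71, 96), (74, 76), (75, 97), (86, 92)],
   [(0, 71), (2, 34), (3, 27), (4, 80), (6, 82), (7, 40), (8, 38), (9, 19), (10, 85), (12, 83), (13, 56), (14, 93), (15, 94), (16, 53), (17, 58), (18, 51), (20, 42), (22, 32), (23, 57), (24, 61), (25, 62), (26, 52), (28, 46), (30, 45), (31, 41), (35, 48), (37, 47), (39, 89), (43, 81), (50, 84), (54, 88), (55, 87), (59, 92), (63, 73), (66, 97), (67, 98), (70, 74), (72, 77), (78, 96), (95, 99)],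
   [(0, 71), (2, 80), (3, 53), (4, 94), (5, 19), (6, 38), (7, 83), (8, 93), (10, 58), (12, 42), (13, 85), (14, 82), (15, 34), (16, 32), (17, 56), (18, 51), (20, 40), (22, 27), (23, 47), (24, 44), (29, 52), (30, 60), (31, 48), (33, 43), (35, 55), (36, 59), (37, 39), (41, 87), (46, 79), (49, 84), (54, 90), (57, 89), (62, 91), (64, 73), (65, 96), (67, 74), (70, 95), (72, 76), (75, 97), (98, 99)],
   [(0, 23), (4, 5), (7, 55), (8, 90), (9, 66), (10, 99), (11, 77), (12, 42), (13, 85), (14, 62), (15, 97), (16, 44), (17, 70), (18, 51), (19, 94), (20, 48), (21, 81), (22, 73), (24, 32), (25, 88), (27, 64), (29, 46), (30, 60), (31, 40), (34, 75), (35, 83), (36, 96), (37, 57), (39, 89), (41, 87), (47, 71), (50, 69), (52, 79), (54, 93), (56, 95), (58, 98), (59, 65), (61, 63), (67, 74), (82, 91)],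
   [(2, 7), (3, 21), (5, 22), (6, 10), (8, 13), (9, 18), (12, 15), (16, 19), (23, 96), (24, 83), (25, 69), (26, 29), (28, 68), (30, 85), (31, 97), (33, 87), (34, 73), (35, 48), (36, 89), (37, 47), (38, 72), (40, 63), (41, 81), (42, 44), (43, 66), (45, 82), (49, 70), (50, 90), (51, 53), (54, 99), (56, 77), (57, 92), (58, 60), (59, 78), (61, 94), (64, 80), (67, 95), (71, 86), (76, 93), (88, 98)],
   [(1, 2), (4, 5), (7, 22), (9, 19), (10, 11), (14, 17), (15, 18), (20, 21), (24, 87), (25, 88), (27, 79), (28, 43), (29, 83), (30, 47), (31, 40), (32, 41), (35, 46), (36, 82), (37, 50), (38, 86), (39, 89), (45, 84), (48, 81), (51, 97), (52, 64), (53, 68), (54, 74), (55, 73), (56, 65), (57, 69), (58, 98), (59, 95), (60, 71), (61, 63), (62, 70), (66, 94), (67, 93), (72, 92), (77, 99), (91, 96)],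
   [(0, 89), (3, 76), (4, 75), (5, 34), (6, 33), (7, 70), (8, 54), (9, 66), (10, 58), (11, 63), (12, 67), (13, 41), (15, 19), (16, 24), (17, 55), (18, 51), (20, 40), (21, 25), (23, 39), (29, 59), (30, 60), (31, 48), (32, 44), (35, 56), (36, 52), (37, 47), (38, 43), (42, 74), (46, 65), (50, 69), (53, 72), (57, 71), (61, 77), (79, 96), (81, 88), (83, 95), (85, 87), (90, 93), (94, 97), (98, 99)]]

/-- A base with strong generators and orbit trees. -/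
def levels : List (ℕ × List (List ℕ) × List (ℕ × ℕ × ℕ)) :=
  [(0, [[0], [1], [2], [3], [4], [5], [6]], [(65, 0, 0), (71, 0, 1), (23, 0, 3), (89, 0, 6), (96, 65, 2), (59, 65, 3), (56, 65, 5), (46, 65, 6), (47, 71, 3), (86, 71, 4), (60, 71, 5), (57, 71, 6), (36, 23, 0), (39, 23, 6), (78, 96, 1), (91, 96, 5), (79, 96, 6), (92, 59, 1), (95, 59, 5), (29, 59, 6), (13, 56, 1), (17, 56, 2), (77, 56, 4), (35, 56, 6), (28, 46, 1), (37, 47, 1), (30, 47, 5), (38, 86, 5), (6, 60, 0), (58, 60, 4), (69, 57, 5), (82, 36, 5), (52, 36, 6), (8, 91, 0), (62, 91, 2), (27, 79, 5), (72, 92, 5), (70, 95, 0), (99, 95, 1), (67, 95, 4), (83, 95, 6), (26, 29, 4), (84, 13, 0), (85, 13, 2), (41, 13, 6), (14, 17, 5), (55, 17, 6), (11, 77, 3), (61, 77, 6), (19, 35, 0), (48, 35, 1), (68, 28, 4), (43, 28, 5), (50, 37, 5), (45,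 30, 1), (10, 6, 4), (33, 6, 6), (98, 58, 3), (25, 69, 4), (54, 82, 0), (64, 52, 5), (93, 8, 2), (90, 8, 3), (22, 27, 0), (3, 27, 1), (76, 72, 2), (53, 72, 6), (74, 70, 1), (49, 70, 4), (7, 70, 6), (12, 67, 6), (4, 83, 0), (24, 83, 4), (87, 85, 6), (80, 41, 0), (31, 41, 1), (81, 41, 4), (32, 41, 5), (5, 55, 0), (73, 55, 5), (63, 11, 6), (9, 61, 0), (94, 61, 4), (16, 19, 4), (15, 19, 6), (20, 48, 3), (51, 43, 0), (66, 43, 4), (18, 33, 0), (88, 98, 4), (21, 25, 6), (42, 53, 0), (40, 7, 1), (2, 7, 4), (75, 4, 6), (44, 24, 2), (97, 31, 4), (34, 5, 6), (1, 2, 5)]),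
   (1, [[5], [4], [1, 2], [6, 0, 1, 3]], [(2, 1, 0), (7, 2, 1), (4, 2, 2), (5, 2, 3), (22, 7, 0), (12, 7, 2), (15, 4, 2), (17, 4, 3), (9, 5, 2), (13, 5, 3), (3, 22, 2), (20, 12, 2), (16, 12, 3), (18, 15, 0), (11, 15, 3), (14, 17, 0), (19, 9, 0), (8, 13, 1), (10, 13, 2), (21, 3, 1), (6, 18, 3)]),
   (2, [[4], [1, 2], [0, 1, 0], [6, 0, 1, 3]], [(7, 2, 0), (4, 2, 1), (5, 2, 2), (12, 7, 1), (15, 7, 2), (3, 4, 2), (17, 4, 3), (22, 5, 0), (9, 5, 1), (13, 5, 3), (20, 12, 1), (16, 12, 3), (11, 15, 3), (21, 3, 0), (10, 17, 2), (18, 9, 0), (19, 9, 1), (8, 13, 0), (6, 10, 0), (14, 8, 1)]),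
   (24, [[6, 1, 0, 1, 6], [2, 4, 2, 4, 1], [5, 6, 3, 5, 6], [1, 4, 6, 4, 1]], [(40, 24, 0), (94, 24, 1), (41, 24, 2), (73, 40, 1), (25, 40, 2), (97, 94, 2), (99, 94, 3), (62, 73, 2), (42, 73, 3), (77, 97, 3), (61, 99, 0), (67, 99, 1), (90, 62, 3), (98, 42, 0), (63, 42, 1), (74, 77, 0), (58, 77, 1), (80, 61, 1), (54, 67, 2), (31, 67, 3), (93, 90, 0), (84, 98, 1), (32, 63, 3), (49, 74, 1), (87, 58, 3), (75, 80, 3), (45, 54, 0), (88, 54, 3), (66, 31, 0), (76, 84, 3), (70, 32, 0), (34, 49, 3), (55, 87, 0), (48, 75, 0), (33, 45, 3), (51, 88, 0), (44, 76, 0), (85, 76, 1), (81, 48, 2)]),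
   (31, [[4, 3, 1, 0, 6], [4, 6, 0, 2, 6, 4]], [(51, 31, 0), (67, 31, 1), (87, 51, 0), (44, 51, 1), (80, 67, 0), (70, 87, 0), (58, 87, 1), (33, 44, 0), (63, 80, 0), (34, 80, 1), (81, 70, 1), (49, 58, 0), (85, 33, 0), (84, 33, 1), (32, 63, 1), (76, 81, 0), (54, 49, 0), (75, 49, 1), (66, 85, 1), (55, 32, 0), (48, 76, 0), (45, 76, 1), (88, 54, 1)])]

def wordB : List ℕ := [0, 4, 6, 0, 5, 4, 5]

def conjB : List ℕ := [0, 4, 3, 0]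

def prodB : List ℕ := [0, 3, 4, 0]

def kleinP : List ℕ := [2]

def kleinQ : List ℕ := [1, 0, 4, 6, 4, 0, 1]

def kleinV : List ℕ := [4, 0, 6, 4, 1]

def kleinUV : List ℕ := [1, 4, 6, 0, 5, 1]

def u3 : List ℕ := [6, 1, 0, 3, 5, 4, 6, 4, 5, 4, 1, 5]

def v3 : List ℕ := [0, 4, 6, 4, 1, 3, 1, 6, 0]

def h3 : List ℕ := [6, 0, 6, 1, 4, 1, 6, 0, 6]

def u5 : List ℕ := [0, 4, 0, 1, 6, 0, 3, 5, 0, 6, 1]

def v5 : List ℕ := [1, 3, 4, 2, 5, 4, 2, 6, 4, 5, 6, 0]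

def h5 : List ℕ := [1, 6, 0, 3, 5, 0, 6, 1]

/-- Relators `b ^ (2 j)` with `b ^ j` conjugate to the first or the second involution. -/
def evenData : List (List ℕ × ℕ × Bool × List ℕ) :=
  [([0], 1, false, []),
   ([1], 1, false, [4, 3, 4]),
   ([2], 1, false, [4, 0, 4, 2, 4]),
   ([3], 1, false, [4, 0, 1]),
   ([4], 1, false, [1, 3, 4]),
   ([5], 1, false, [1, 6, 5, 4, 3]),
   ([6], 1, false, [1, 0, 1, 6, 1]),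
   ([0, 2], 1, false, [3]),
   ([2, 3], 1, false, [0, 4, 0, 1]),
   ([2, 6], 1, false, [0, 4, 6, 2, 1, 3, 1]),
   ([3, 5], 1, false, [1, 4, 1, 5, 4]),
   ([3, 6], 1, false, [4, 6, 0, 1]),
   ([2, 3, 6], 1, false, [1, 0, 3, 1, 6, 1]),
   ([0, 2, 0, 6], 1, false, [0, 4, 6, 2, 1, 3, 1]),
   ([0, 3], 2, false, [4, 0, 4, 2, 4]),
   ([0, 3, 0, 6], 1, false, [1, 0, 3, 1, 6, 1]),
   ([0, 4], 2, false, [1, 5, 3, 1]),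
   ([0, 6], 2, false, [4, 3, 0, 6, 1]),
   ([0, 6, 2, 6], 1, false, [3]),
   ([2, 3, 2, 5], 1, false, [1, 4, 1, 5, 4]),
   ([2, 3, 2, 6], 1, false, [4, 6, 0, 1]),
   ([2, 5, 3, 5], 1, false, [0, 4, 0, 1]),
   ([3, 5, 6, 5], 1, false, [5, 4, 6, 0, 1]),
   ([3, 6, 5, 6], 1, false, [1, 5, 6, 4, 2, 1]),
   ([4, 6], 2, false, [1, 0, 6, 1]),
   ([5, 6], 2, false, [1, 6, 4, 3]),
   ([0, 1, 4, 1, 2], 1, false, [1, 4, 1]),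
   ([0, 1, 4, 3, 4], 1, false, [1]),
   ([0, 2, 0, 2, 5], 1, false, [1, 6, 5, 4, 3]),
   ([0, 2, 0, 3, 6], 1, false, [1, 0, 3, 1, 6, 1]),
   ([0, 2, 3, 0, 5], 1, false, [1, 4, 1, 5, 4]),
   ([0, 2, 3, 0, 6], 1, false, [4, 6, 0, 1]),
   ([0, 2, 5, 0, 3], 1, false, [5, 0, 5, 3]),
   ([0, 2, 5, 4, 5], 1, false, [4, 5, 4, 3]),
   ([0, 2, 6, 0, 3], 1, false, [0, 4, 6, 0, 1]),
   ([0, 2, 6, 0, 6], 1, false, [4, 2, 4, 6, 2, 0, 1]),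
   ([0, 3, 0, 3, 6], 1, false, [0, 4, 6, 2, 1, 3, 1]),
   ([0, 3, 5, 3, 5], 1, false, []),
   ([0, 3, 6, 0, 6], 1, false, [4, 6, 0, 4, 2, 4]),
   ([0, 3, 6, 3, 6], 1, false, []),
   ([1, 2, 3, 2, 3], 1, false, [4, 3, 4]),
   ([1, 2, 6, 2, 6], 1, false, [4, 3, 4]),
   ([1, 3, 5, 3, 5], 1, false, [4, 3, 4]),
   ([1, 3, 6, 3, 6], 1, false, [4, 3, 4]),
   ([2, 4, 6, 2, 6], 1, false, [2, 1, 3, 4]),
   ([2, 5, 3, 5, 6], 1, false, [1, 0, 3, 1, 6, 1]),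
   ([2, 5, 6, 2, 6], 1, false, [5, 0, 4, 0, 1]),
   ([3, 4, 5, 3, 5], 1, false, [1, 3, 1, 4]),
   ([3, 4, 6, 3, 6], 1, false, [1, 3, 1, 4]),
   ([3, 5, 3, 5, 6], 1, false, [1, 0, 1, 6, 1]),
   ([3, 5, 6, 3, 6], 1, false, [1, 6, 5, 4, 3]),
   ([3, 5, 6, 5, 6], 1, false, [2, 5, 4, 6, 0, 1]),
   ([0, 1, 3], 2, false, [4, 0, 3, 1]),
   ([0, 1, 3, 0, 2, 3], 1, false, [1, 0, 1]),
   ([0, 2, 0, 2, 3, 5], 1, false, [1, 4, 1, 5, 4]),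
   ([0, 2, 0, 3, 6, 3], 1, false, [0, 4, 6, 2, 1, 3, 1]),
   ([0, 2, 0, 5, 3, 5], 1, false, [0, 4, 0, 1]),
   ([0, 2, 0, 6, 3, 6], 1, false, [0, 4, 0, 1]),
   ([0, 2, 3, 0, 3, 4], 1, false, [1, 3, 4]),
   ([0, 2, 3, 0, 3, 5], 1, false, [1, 6, 5, 4, 3]),
   ([0, 2, 3, 5, 3, 5], 1, false, [3]),
   ([0, 2, 3, 6, 0, 3], 1, false, [4, 6, 3, 0, 6, 1]),
   ([0, 2, 3, 6, 0, 6], 1, false, [4, 2, 0, 1, 6, 3, 1]),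
   ([0, 2, 3, 6, 3, 6], 1, false, [3]),
   ([0, 2, 6], 2, false, [4, 3, 0, 6, 1]),
   ([0, 2, 6, 2, 0, 3], 1, false, [4, 2, 1, 6, 2, 1]),
   ([0, 2, 6, 2, 0, 6], 1, false, [4, 3, 0, 6, 1]),
   ([0, 3, 0, 6, 2, 6], 1, false, [4, 0, 1]),
   ([0, 3, 2, 6, 0, 6], 1, false, [4, 2, 0, 1, 6, 3, 1]),
   ([0, 3, 4, 1, 4, 3], 1, false, [1, 5, 3, 1]),
   ([0, 3, 5, 4, 3, 5], 1, false, [1, 5, 0, 5, 1]),
   ([0, 3, 5, 4, 5, 3], 1, false, [1, 5, 0, 5, 1]),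
   ([0, 3, 6], 2, false, [4, 2, 4, 6, 2, 0, 1]),
   ([0, 3, 6, 0, 6, 3], 1, false, [4, 2, 4, 6, 2, 0, 1]),
   ([0, 3, 6, 2, 3, 6], 1, false, [3]),
   ([0, 3, 6, 3, 0, 6], 1, false, [4, 3, 0, 6, 1]),
   ([0, 5], 3, false, [1, 5, 2, 1, 3]),
   ([0, 5, 3, 4, 3, 5], 1, false, [1, 5, 0, 5, 1]),
   ([0, 5, 3, 5, 0, 6], 1, false, [1, 0, 3, 1, 6, 1]),
   ([0, 6, 0, 6, 2, 6], 1, false, [4, 6, 2, 1, 3, 1]),
   ([0, 6, 0, 6, 3, 6], 1, false, [4, 2, 1, 6, 2, 1]),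
   ([1, 2, 1, 2, 1, 3], 1, false, [0, 4, 0, 1]),
   ([1, 2, 1, 2, 1, 6], 1, false, [0, 4, 6, 2, 1, 3, 1]),
   ([1, 2, 1, 3, 1, 6], 1, false, [0, 6, 1, 3, 2, 1]),
   ([1, 2, 1, 6, 1, 6], 1, false, [2, 4, 6, 0, 5, 3, 1]),
   ([1, 2, 3, 1, 2, 6], 1, false, [1, 4, 6, 0, 1, 4]),
   ([1, 2, 3, 1, 3, 6], 1, false, [0, 6, 1, 3, 2, 1]),
   ([1, 2, 3, 1, 6, 2], 1, false, [1, 4, 6, 0, 1, 4]),
   ([1, 2, 3, 1, 6, 3], 1, false, [0, 6, 1, 3, 2, 1]),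
   ([1, 2, 6], 2, false, [4, 6, 0, 5, 3, 1]),
   ([1, 2, 6, 1, 3, 6], 1, false, [2, 4, 6, 0, 1, 4]),
   ([1, 2, 6, 1, 6, 2], 1, false, [4, 6, 0, 5, 3, 1]),
   ([1, 3, 1, 3, 1, 5], 1, false, [1, 4, 1, 5, 4]),
   ([1, 3, 1, 3, 1, 6], 1, false, [4, 6, 0, 1]),
   ([1, 3, 1, 6, 1, 6], 1, false, [1, 4, 6, 0, 1]),
   ([1, 3, 6], 2, false, [2, 1, 4, 6, 0, 1]),
   ([2, 3, 2, 5, 6, 5], 1, false, [5, 4, 6, 0, 1]),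
   ([2, 3, 6, 2, 6, 5], 1, false, [1, 4, 1, 5, 4]),
   ([2, 3, 6, 5, 2, 6], 1, false, [6, 0, 5, 0, 5, 3]),
   ([2, 3, 6, 5, 3, 5], 1, false, [0, 4, 6, 2, 1, 3, 1]),
   ([2, 4], 3, false, [1, 3, 0, 4, 3]),
   ([2, 4, 6, 4, 2, 6], 1, false, [2, 1, 0, 6, 1]),
   ([2, 5], 3, false, [4, 0, 1]),
   ([2, 5, 2, 5, 6, 5], 1, false, [6, 5, 0, 4, 0, 1]),
   ([2, 5, 2, 6, 3, 6], 1, false, [0, 5, 0, 5, 3]),
   ([2, 5, 3, 6, 2, 6], 1, false, [0, 5, 0, 5, 3]),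
   ([2, 5, 6, 5, 2, 6], 1, false, [2, 1, 6, 4, 3]),
   ([2, 6, 5, 3, 5, 6], 1, false, [0, 4, 0, 1]),
   ([3, 4], 3, false, [1, 4, 2, 1]),
   ([3, 4, 3, 4, 6, 4], 1, false, [6, 1, 3, 1, 4]),
   ([3, 4, 6, 4, 3, 6], 1, false, [0, 4, 6, 4]),
   ([3, 5, 6], 2, false, [1, 6, 4, 3]),
   ([3, 6, 5, 6, 5, 6], 1, false, [5, 4, 6, 0, 1]),
   ([4, 5], 3, false, [3, 1, 5, 4, 3]),
   ([0, 1, 0, 1, 0, 3, 4], 1, false, [2, 1, 4, 2, 1]),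
   ([0, 1, 0, 1, 3, 1, 2], 1, false, [5, 2, 4]),
   ([0, 1, 0, 1, 3, 4, 1], 1, false, [4, 1, 2, 1, 4]),
   ([0, 1, 0, 2, 6, 2, 6], 1, false, [1, 0, 1]),
   ([0, 1, 0, 3, 6, 3, 6], 1, false, [1, 0, 1]),
   ([0, 1, 2, 0, 6, 2, 6], 1, false, [1, 0, 1]),
   ([0, 1, 2, 1, 3, 4, 1], 1, false, [0, 4, 1]),
   ([0, 1, 2, 6, 1, 0, 3], 1, false, [0, 4, 6, 0, 1, 4]),
   ([0, 1, 2, 6, 2, 6, 1], 1, false, []),
   ([0, 1, 3, 1, 0, 1, 4], 1, false, [0, 1, 2, 4, 3]),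
   ([0, 1, 3, 6, 3, 6, 1], 1, false, []),
   ([0, 1, 4, 0, 6, 1, 3], 1, false, [0, 1, 2, 5, 6, 5]),
   ([0, 1, 4, 1, 6, 2, 6], 1, false, [1, 4, 1]),
   ([0, 1, 4, 5, 3, 5, 4], 1, false, [1]),
   ([0, 1, 4, 6, 3, 6, 4], 1, false, [1]),
   ([0, 1, 6, 1, 2, 0, 2], 1, false, [1, 6, 1]),
   ([0, 1, 6, 1, 4, 6, 4], 1, false, [1, 6, 1, 4, 6, 4]),
   ([0, 1, 6, 1, 6, 1, 6], 1, false, []),
   ([0, 1, 6, 2, 6, 0, 2], 1, false, [1, 0, 1]),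
   ([0, 2, 0, 2, 3, 6, 3], 1, false, [1, 0, 1, 6, 1]),
   ([0, 2, 0, 2, 4, 6, 4], 1, false, [0, 4, 6, 4]),
   ([0, 2, 0, 2, 5, 0, 5], 1, false, [5]),
   ([0, 2, 0, 2, 5, 6, 5], 1, false, [2, 1, 6, 4, 3]),
   ([0, 2, 0, 2, 6, 1, 6], 1, false, [0, 1, 6, 1]),
   ([0, 2, 0, 2, 6, 5, 6], 1, false, [1, 6, 1, 5, 4, 3]),
   ([0, 2, 0, 4, 6, 2, 6], 1, false, [2, 1, 3, 4]),
   ([0, 2, 0, 5, 6, 2, 6], 1, false, [5, 0, 4, 0, 1]),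
   ([0, 2, 0, 6, 1, 2, 6], 1, false, [2, 0, 1, 6, 1]),
   ([0, 2, 0, 6, 2, 5, 6], 1, false, [1, 6, 1, 5, 4, 3]),
   ([0, 2, 1, 4, 3, 4, 2], 1, false, [2, 1]),
   ([0, 2, 3, 0, 2, 6, 2], 1, false, [4, 6, 0, 1]),
   ([0, 2, 3, 0, 5, 6, 5], 1, false, [5, 4, 6, 0, 1]),
   ([0, 2, 3, 0, 6, 2, 6], 1, false, [0, 4, 0, 1]),
   ([0, 2, 3, 2, 3, 0, 5], 1, false, [1, 6, 5, 4, 3]),
   ([0, 2, 3, 2, 3, 0, 6], 1, false, [1, 0, 1, 6, 1]),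
   ([0, 2, 3, 2, 5, 3, 5], 1, false, []),
   ([0, 2, 3, 6, 0, 2, 6], 1, false, [4, 6, 0, 4, 2, 4]),
   ([0, 2, 3, 6, 3, 0, 6], 1, false, [4, 2, 4, 6, 2, 0, 1]),
   ([0, 2, 4, 0, 6, 2, 6], 1, false, [3, 1, 2, 4]),
   ([0, 2, 5, 0, 5, 3, 5], 1, false, [5, 0, 5, 3]),
   ([0, 2, 5, 0, 6, 2, 6], 1, false, [0, 5, 0, 4, 0, 1]),
   ([0, 2, 5, 0, 6, 3, 6], 1, false, [5, 0, 5, 3]),
   ([0, 2, 5, 6, 5, 0, 3], 1, false, [1, 0, 5, 4, 6, 3]),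
   ([0, 2, 6, 0, 2, 6, 2], 1, false, [4, 2, 4, 6, 2, 0, 1]),
   ([0, 2, 6, 0, 5, 3, 5], 1, false, [0, 4, 6, 0, 1]),
   ([0, 2, 6, 2, 3, 0, 6], 1, false, [4, 6, 0, 4, 2, 4]),
   ([0, 2, 6, 2, 6, 0, 5], 1, false, [1, 6, 5, 4, 3]),
   ([0, 2, 6, 3, 6, 0, 5], 1, false, [1, 4, 1, 5, 4]),
   ([0, 2, 6, 5, 6, 0, 3], 1, false, [1, 6, 1, 3, 4, 5]),
   ([0, 3, 0, 5, 6, 2, 6], 1, false, [0, 5, 0, 5, 3]),
   ([0, 3, 0, 6, 2, 5, 6], 1, false, [1, 5, 6, 4, 2, 1]),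
   ([0, 3, 1, 2, 4, 6, 4], 1, false, [5, 6, 5, 1, 6]),
   ([0, 3, 2, 6, 0, 3, 6], 1, false, [4, 3, 0, 6, 1]),
   ([0, 3, 4, 6, 4, 0, 6], 1, false, [4, 6, 4, 3]),
   ([0, 3, 5, 2, 3, 2, 5], 1, false, []),
   ([0, 3, 5, 2, 5, 2, 5], 1, false, [3]),
   ([0, 3, 5, 6, 3, 6, 5], 1, false, []),
   ([0, 3, 6, 0, 6, 2, 6], 1, false, [4, 2, 1, 6, 2, 1]),
   ([0, 3, 6, 2, 6, 0, 5], 1, false, [1, 4, 1, 5, 4]),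
   ([0, 3, 6, 5, 3, 5, 6], 1, false, []),
   ([0, 4, 1, 3, 5, 1, 4], 1, false, [1, 5, 0, 5, 1]),
   ([0, 4, 1, 4, 6, 2, 6], 1, false, [1, 4, 1]),
   ([0, 4, 2, 6, 2, 6, 4], 1, false, []),
   ([0, 4, 3, 5, 3, 5, 4], 1, false, []),
   ([0, 4, 6, 0, 5, 4, 5], 1, true, []),
   ([0, 4, 6, 4, 6, 1, 6], 1, false, [1, 6, 0, 1, 6]),
   ([0, 5, 0, 6, 2, 3, 6], 1, false, [5, 2, 0, 5]),
   ([0, 5, 2, 6, 2, 6, 5], 1, false, []),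
   ([0, 5, 3, 5, 6, 0, 6], 1, false, [4, 6, 0, 4, 2, 4]),
   ([0, 5, 3, 5, 6, 3, 6], 1, false, []),
   ([0, 5, 4, 5, 6, 2, 6], 1, false, [0, 4, 5, 4, 3]),
   ([0, 6, 0, 6, 2, 3, 6], 1, false, [0, 4, 6, 0, 1]),
   ([0, 6, 1, 4, 6, 4, 6], 1, false, [1, 6, 1, 4, 6, 4]),
   ([1, 2, 1, 2, 1, 3, 6], 1, false, [1, 0, 3, 1, 6, 1]),
   ([1, 2, 3, 1, 6, 1, 6], 1, false, [0, 3, 1, 6, 1]),
   ([1, 2, 3, 2, 3, 1, 5], 1, false, [1, 6, 5, 4, 3]),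
   ([1, 2, 3, 2, 6, 3, 6], 1, false, [4, 3, 4]),
   ([1, 2, 3, 5, 3, 5, 2], 1, false, [4, 3, 4]),
   ([1, 2, 3, 6, 3, 2, 6], 1, false, [4, 3, 4]),
   ([1, 2, 4, 1, 2, 4, 5], 1, false, [4, 0, 4, 1, 5]),
   ([1, 2, 4, 1, 5, 2, 4], 1, false, [2, 0, 5, 0, 1]),
   ([1, 2, 4, 6, 2, 6, 4], 1, false, [3, 2, 1, 0, 1]),
   ([1, 2, 5, 3, 5, 2, 3], 1, false, [4, 3, 4]),
   ([1, 2, 6, 1, 6, 1, 6], 1, false, [2, 4, 3, 4]),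
   ([1, 2, 6, 2, 6, 1, 4], 1, false, [1, 3, 4]),
   ([1, 2, 6, 2, 6, 1, 5], 1, false, [1, 6, 5, 4, 3]),
   ([1, 2, 6, 2, 6, 1, 6], 1, false, [1, 0, 1, 6, 1]),
   ([1, 2, 6, 3, 6, 2, 3], 1, false, [4, 3, 4]),
   ([1, 3, 1, 4, 3, 1, 5], 1, false, [1, 5, 4, 5, 4]),
   ([1, 3, 1, 5, 1, 4, 5], 1, false, [3, 1, 4, 5, 4]),
   ([1, 3, 5, 1, 3, 5, 4], 1, false, [3, 4, 5, 0, 1]),
   ([1, 3, 5, 1, 4, 3, 5], 1, false, [1, 4, 5, 4]),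
   ([1, 3, 5, 1, 5, 1, 5], 1, false, [1, 4, 0, 1]),
   ([1, 3, 5, 1, 5, 4, 5], 1, false, [3, 1, 4, 5, 4]),
   ([1, 3, 5, 1, 6, 5, 6], 1, false, [0, 5, 6, 4, 0, 5]),
   ([1, 3, 5, 3, 5, 1, 6], 1, false, [1, 0, 1, 6, 1]),
   ([1, 3, 5, 6, 3, 6, 5], 1, false, [4, 3, 4]),
   ([1, 3, 6, 3, 6, 1, 4], 1, false, [1, 3, 4]),
   ([1, 3, 6, 5, 3, 5, 6], 1, false, [4, 3, 4]),
   ([1, 4, 1, 4, 1, 4, 5], 1, false, [1, 6, 5, 4, 3]),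
   ([1, 4, 1, 4, 1, 4, 6], 1, false, [1, 0, 1, 6, 1]),
   ([1, 4, 2, 4, 6, 2, 6], 1, false, [5, 3, 2, 4]),
   ([1, 4, 2, 6, 2, 6, 4], 1, false, [4, 3, 4]),
   ([1, 4, 3, 6, 3, 6, 4], 1, false, [4, 3, 4]),
   ([1, 4, 5, 2, 4, 6, 5], 1, true, [1, 5, 6, 4, 0]),
   ([1, 4, 6, 1, 6, 1, 6], 1, false, [3, 4]),
   ([1, 5, 1, 5, 1, 5, 6], 1, false, [1, 0, 1, 6, 1]),
   ([1, 5, 6, 1, 6, 1, 6], 1, false, [6, 5, 4, 3]),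
   ([2, 3, 2, 3, 4, 5, 4], 1, false, [1, 0, 4, 5, 4, 1]),
   ([2, 3, 2, 3, 4, 6, 4], 1, false, [0, 4, 6, 4]),
   ([2, 3, 2, 3, 5, 6, 5], 1, false, [2, 1, 6, 4, 3]),
   ([2, 3, 2, 4, 6, 3, 6], 1, false, [1, 3, 1, 4]),
   ([2, 3, 2, 5, 2, 6, 5], 1, false, [6, 5, 0, 4, 0, 1]),
   ([2, 3, 2, 5, 6, 5, 6], 1, false, [2, 5, 4, 6, 0, 1]),
   ([2, 3, 4, 2, 6, 3, 6], 1, false, [1, 0, 4, 1]),
   ([2, 3, 4, 6, 2, 6, 3], 1, false, [1, 0, 4, 1]),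
   ([2, 3, 4, 6, 3, 2, 6], 1, false, [1, 0, 4, 1]),
   ([2, 3, 5, 3, 5, 2, 6], 1, false, [1, 0, 1, 6, 1]),
   ([2, 3, 5, 6, 5, 2, 5], 1, false, [1, 5, 6, 4, 2, 1]),
   ([2, 3, 5, 6, 5, 2, 6], 1, false, [5, 4, 6, 0, 1]),
   ([2, 3, 6, 2, 3, 6, 4], 1, false, [1, 3, 4]),
   ([2, 3, 6, 2, 3, 6, 5], 1, false, [1, 6, 5, 4, 3]),
   ([2, 3, 6, 2, 4, 3, 6], 1, false, [6, 1, 3, 1, 4]),
   ([2, 3, 6, 3, 5, 2, 6], 1, false, [6, 5, 0, 4, 0, 1]),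
   ([2, 3, 6, 3, 6, 2, 5], 1, false, [1, 6, 5, 4, 3]),
   ([2, 4, 2, 5, 4, 5, 6], 1, true, [2, 4, 0]),
   ([2, 4, 3, 4, 6, 2, 6], 1, false, [2, 0, 1]),
   ([2, 4, 3, 5, 3, 5, 4], 1, false, [4, 0, 4, 2, 4]),
   ([2, 4, 6, 2, 5, 4, 5], 1, true, [2, 0]),
   ([2, 5, 2, 5, 2, 5, 6], 1, false, [4, 6, 0, 1]),
   ([2, 5, 3, 5, 6, 3, 6], 1, false, [4, 0, 4, 2, 4]),
   ([2, 5, 4, 5, 6, 2, 6], 1, false, [5, 4, 5]),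
   ([2, 5, 6, 3, 6, 5, 6], 1, false, [1, 0, 3, 1, 6, 1]),
   ([3, 4, 3, 4, 3, 4, 6], 1, false, [0, 6, 4, 3, 2, 1]),
   ([3, 4, 3, 4, 6, 3, 6], 1, false, [3, 0, 1]),
   ([0, 4, 3, 5], 2, false, [5, 2, 0, 5, 4]),
   ([0, 1, 3, 4, 5], 2, false, [5, 2, 4]),
   ([0, 1, 4, 0, 5], 2, false, [4, 0, 4, 5]),
   ([0, 1, 5, 1, 2], 2, false, [6, 4, 0, 4, 5]),
   ([0, 1, 5, 4, 5], 2, false, [5, 1, 2, 4]),
   ([0, 2, 1, 4, 5], 2, false, [4, 0, 4, 2, 5]),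
   ([0, 2, 3, 4, 5], 2, false, [5, 0, 5, 3, 4]),
   ([0, 2, 5, 1, 5], 2, false, [5, 4, 1, 5, 3]),
   ([0, 3, 2, 4, 5], 2, false, [5, 0, 5, 3, 4]),
   ([0, 3, 5, 1, 5], 2, false, [0, 6, 4, 1, 5]),
   ([0, 4, 0, 4, 5], 2, false, [1, 4, 5, 2, 4, 3])]

/-- Relators of odd length in the generators. -/
def oddRels : List (List ℕ) :=
  [[0, 1, 0, 1, 0, 1, 0, 1, 0, 1], [1, 2, 1, 2, 1, 2], [1, 3, 1, 3, 1, 3], [1, 4, 1, 4, 1, 4], [1, 5, 1, 5, 1, 5], [1, 6, 1, 6, 1, 6], [0, 1, 2, 0, 1, 2, 0, 1, 2, 0, 1, 2, 0, 1, 2]]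

end Cfsg.Agent.HSMult13
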