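import Cfsg.Agent.HSMult13.Base

/-!
Checks on the witness words.
-/

set_option autoImplicit false
set_option maxRecDepth 100000

namespace Cfsg.Agent.HSMult13

open Cfsg.Agent.CosetEnum
open scoped commutatorElement

/-- The word of a commutator. -/
def comW (u v : List ℕ) : List ℕ := u ++ v ++ u.reverse ++ v.reverse

theorem evalWord_comW (u v : List ℕ) :
    evalWord ga (comW u v) = ⁅evalWord ga u, evalWord ga v⁆ := by
  simp only [comW, evalWord_append, evalWord_reverse, commutatorElement_def]

/-- The conjugate of a word. -/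
def conjW (h u : List ℕ) : List ℕ := h ++ u ++ h.reverse

theorem evalWord_conjW (h u : List ℕ) :
    evalWord ga (conjW h u) = evalWord ga h * evalWord ga u * (evalWord ga h)⁻¹ := by
  simp only [conjW, evalWord_append, evalWord_reverse]

/-- The first or second involution. -/
def baseW (b : Bool) : List ℕ := if b then wordB else [0]

/-- The word of a relator. -/
def evenRel (d : List ℕ × ℕ × Bool × List ℕ) : List ℕ := repWord d.1 (2 * d.2.1)

/-- All relators. -/
def allRels : List (List ℕ) := evenData.map evenRel ++ oddRels

theorem even_check : (evenData.all fun d =>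
    eqW (repWord d.1 d.2.1) (conjW d.2.2.2 (baseW d.2.2.1))) = true := by decide +kernel

theorem odd_check : (oddRels.all fun r => eqW r []) = true := by decide +kernel

theorem klein_check : (eqW (conjW kleinP [0]) [0] && eqW (conjW kleinQ [0]) [0] &&
    eqW (comW kleinP kleinQ) (conjW kleinV [0]) &&
    eqW ([0] ++ comW kleinP kleinQ) (conjW kleinUV [0])) = true := by decide +kernel

theorem pairB_check : (eqW (wordB ++ wordB) [] && eqW (wordB ++ conjW conjB wordB)
      (conjW conjB wordB ++ wordB) && eqW (wordB ++ conjW conjB wordB) (conjW prodB wordB)) = true := by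
  decide +kernel

theorem three_check : (eqW (repWord u3 3) [] && eqW (repWord v3 3) [] && neW u3 [] &&
    eqW (u3 ++ v3) (v3 ++ u3) && neW v3 [] && neW v3 u3 && neW v3 (u3 ++ u3) &&
    eqW (conjW h3 u3) u3 && eqW (conjW h3 v3) (v3 ++ v3)) = true := by decide +kernel

theorem five_check : (eqW (repWord u5 5) [] && eqW (repWord v5 5) [] &&
    neW (comW u5 v5) [] && eqW (comW u5 v5 ++ u5) (u5 ++ comW u5 v5) &&
    eqW (comW u5 v5 ++ v5) (v5 ++ comW u5 v5) && eqW (h5 ++ comW u5 v5) (comW u5 v5 ++ h5) &&
    eqW (conjW h5 u5) (repWord u5 4) && eqW (conjW h5 v5) (repWord v5 4)) = true := by decide +kernel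

end Cfsg.Agent.HSMult13
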