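import Cfsg.Agent.HSMult13.Facts
import Cfsg.Agent.DoubleCover62.Involutions
import Cfsg.Agent.Lib.Golay.Mult.Lift
import Cfsg.Prelude.Def_KGroupFacts

/-!
A stem extension with kernel of order two, inside the double cover of the alternating group.
-/

set_option autoImplicit false
set_option maxRecDepth 100000

namespace Cfsg.Agent.HSMult13

open Cfsg.Agent.CosetEnum Cfsg.Agent.CharB.Spin

/-- The transpositions of the second involution. -/
def swapsB : List (ℕ × ℕ) :=
  [(0, 79), (1, 22), (2, 38), (3, 35), (4, 32), (5, 17), (6, 25), (7, 72), (8, 13), (9, 75), (10, 60), (11, 49), (12, 58), (14, 74), (15, 69), (16, 56), (18, 62), (19, 48), (20, 70), (21, 77), (23, 99), (24, 42), (26, 97), (27, 55), (28, 85), (29, 94), (30, 44), (31, 51), (33, 66), (34, 73), (36, 81), (37, 90), (39, 84), (40, 67), (41, 64), (43, 76), (45, 54), (46, 98), (47, 95), (50, 63), (52, 91), (53, 61), (57, 80), (59, 93), (65, 88), (68, 83), (71, 82), (78, 87), (86, 96), (89, 92)]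

/-- The points moved by a list of transpositions. -/
def points (L : List (ℕ × ℕ)) : List ℕ := L.flatMap fun x => [x.1, x.2]

theorem swapsB_check : (points swapsB).Nodup ∧ swapsB.length = 50 ∧
    (swapsB.all fun x => decide (x.1 < 100 ∧ x.2 < 100)) = true ∧
    ((List.range 100).all fun i => swapApp swapsB i == runW wordB i) = true ∧
    letOK wordB = true := by
  decide +kernel

theorem mul_neg_of_sq {R : Type} [Ring R] {Y : R} (h : Y * Y = -1) : Y * -Y = 1 ∧ -Y * Y = 1 := by
  constructor <;> simp [h]

/-- The product of the reflections. -/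
noncomputable def reflProd : List (Fin 100 × Fin 100) → Module.End ℝ (Space 100)
  | [] => 1
  | x :: L => refl x.1 x.2 * reflProd L

/-- The sign of the square of a product of anticommuting involutions. -/
def sqSign : ℕ → ℤ
  | 0 => 1
  | k + 1 => (-1) ^ k * sqSign k

theorem sqSign_fifty : sqSign 50 = -1 := by decide +kernel

theorem refl_mul_prod {a b : Fin 100} (hab : a ≠ b) : ∀ L : List (Fin 100 × Fin 100),
    (∀ x ∈ L, a ≠ x.1 ∧ a ≠ x.2 ∧ b ≠ x.1 ∧ b ≠ x.2) →
    reflProd L * refl a b = ((-1 : ℤ) ^ L.length) • (refl a b * reflProd L)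
  | [], _ => by simp [reflProd]
  | x :: L, h => by
    obtain ⟨h1, h2, h3, h4⟩ := h x List.mem_cons_self
    rw [reflProd, mul_assoc, refl_mul_prod hab L fun y hy => h y (List.mem_cons_of_mem _ hy),
      mul_smul_comm, ← mul_assoc,
      ← neg_neg (refl x.1 x.2 * refl a b),
      ← DoubleCover62.refl_anticomm hab (Ne.symm h1) (Ne.symm h3) (Ne.symm h2) (Ne.symm h4),
      neg_mul, mul_assoc, List.length_cons, pow_succ, mul_smul, neg_one_smul]

theorem reflProd_sq : ∀ L : List (Fin 100 × Fin 100),
    (L.flatMap fun x => [x.1, x.2]).Nodup →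
    reflProd L * reflProd L = (sqSign L.length) • (1 : Module.End ℝ (Space 100))
  | [], _ => by simp [reflProd, sqSign]
  | (a, b) :: L, h => by
    simp only [List.flatMap_cons, List.cons_append, List.nil_append, List.nodup_cons,
      List.mem_cons, List.mem_flatMap, List.not_mem_nil, or_false, not_or, not_exists,
      not_and] at h
    obtain ⟨⟨hab, ha⟩, hb, hL⟩ := h
    have hd : ∀ x ∈ L, a ≠ x.1 ∧ a ≠ x.2 ∧ b ≠ x.1 ∧ b ≠ x.2 := fun x hx =>
      ⟨(ha x hx).1, (ha x hx).2, (hb x hx).1, (hb x hx).2⟩
    rw [reflProd, mul_assoc, ← mul_assoc (reflProd L), refl_mul_prod hab L hd, smul_mul_assoc,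
      mul_smul_comm, mul_assoc (refl a b) (reflProd L), reflProd_sq L hL, mul_smul_comm,
      mul_smul_comm, ← mul_assoc, refl_sq hab, mul_one, smul_smul, List.length_cons, sqSign]

theorem isLift_reflProd : ∀ L : List (Fin 100 × Fin 100), (∀ x ∈ L, x.1 ≠ x.2) →
    IsLift (reflProd L) (L.map fun x => Equiv.swap x.1 x.2).prod ((-1 : ℝ) ^ L.length)
  | [], _ => by simpa [reflProd] using isLift_one
  | x :: L, h => by
    rw [reflProd, List.map_cons, List.prod_cons, List.length_cons, pow_succ']
    exact (isLift_refl (h x List.mem_cons_self)).mul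
      (isLift_reflProd L fun y hy => h y (List.mem_cons_of_mem _ hy))

/-- The group as even permutations. -/
noncomputable def iota : G →* alternatingGroup (Fin 100) :=
  gp.codRestrict _ fun g => Equiv.Perm.mem_alternatingGroup.2 g.2

theorem iota_injective : Function.Injective iota := fun _ _ h =>
  gp_injective (congrArg Subtype.val h)

/-- The preimage of the group in the double cover. -/
noncomputable abbrev Cover : Subgroup (cover 100) := iota.range.comap (proj 100)

/-- The covering map. -/
noncomputable def piG : Cover →* G :=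
  (MonoidHom.ofInjective iota_injective).symm.toMonoidHom.comp
    ((proj 100).subgroupComap iota.range)

theorem iota_piG (x : Cover) : iota (piG x) = proj 100 x.1 :=
  congrArg Subtype.val ((MonoidHom.ofInjective iota_injective).apply_symm_apply
    ((proj 100).subgroupComap iota.range x))

theorem piG_surjective : Function.Surjective piG := by
  rw [piG, MonoidHom.coe_comp]
  exact (MonoidHom.ofInjective iota_injective).symm.surjective.comp
    ((proj 100).subgroupComap_surjective_of_surjective _ proj_surjective)

/-- The central involution. -/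
noncomputable def negC : Cover := ⟨negOne 100, by
  rw [Subgroup.mem_comap, proj_negOne]; exact one_mem _⟩

theorem ker_piG : piG.ker = Subgroup.zpowers negC := by
  apply le_antisymm
  · intro x hx
    have h : proj 100 x.1 = 1 := by rw [← iota_piG, MonoidHom.mem_ker.1 hx, map_one]
    obtain ⟨j, hj⟩ := mem_zpowers_negOne h
    exact ⟨j, Subtype.ext (by simpa [negC] using hj)⟩
  · rw [Subgroup.zpowers_le, MonoidHom.mem_ker]
    exact iota_injective (by rw [iota_piG, map_one]; exact proj_negOne)

theorem orderOf_negC : orderOf negC = 2 := by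
  rw [← Subgroup.orderOf_coe]; exact orderOf_negOne

theorem card_ker_piG : Nat.card piG.ker = 2 := by
  rw [ker_piG, Nat.card_zpowers, orderOf_negC]

instance finite_cover : Finite Cover := by
  haveI : Finite piG.ker := Nat.finite_of_card_ne_zero (by rw [card_ker_piG]; norm_num)
  haveI : Finite (Cover ⧸ piG.ker) :=
    Finite.of_equiv _ (QuotientGroup.quotientKerEquivOfSurjective _ piG_surjective).symm.toEquiv
  exact Finite.of_equiv _ (Subgroup.groupEquivQuotientProdSubgroup (s := piG.ker)).symm

theorem negC_mem_center : negC ∈ Subgroup.center Cover :=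
  Subgroup.mem_center_iff.2 fun x => Subtype.ext (Subgroup.mem_center_iff.1 negOne_mem_center x.1)

theorem perfect_G : commutator G = ⊤ := by
  have : IsSimpleGroup G := Leech.HSAut.isHS_even.1
  exact (Golay.Mult.isPerfect_of_simple (G := G) (by rw [card_G]; norm_num)).commutator_eq_top

theorem negC_mem_of_swaps (S : List (ℕ × ℕ)) (W : List ℕ) (hnd : (points S).Nodup)
    (hlen : S.length = 50) (hlt : ∀ x ∈ S, x.1 < 100 ∧ x.2 < 100)
    (hrun : ∀ i < 100, swapApp S i = runW W i) (hok : letOK W = true) :
    negC ∈ commutator Cover := by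
  obtain ⟨y, hy, hyg⟩ : ∃ y ∈ commutator Cover, piG y = evalWord ga W := by
    have h : (commutator Cover).map piG = ⊤ := by
      rw [commutator_def, Subgroup.map_commutator, Subgroup.map_top_of_surjective _ piG_surjective,
        ← commutator_def, perfect_G]
    exact Subgroup.mem_map.1 (h ▸ Subgroup.mem_top _)
  let L := finSwaps S
  have hnd' : (L.flatMap fun x => [x.1, x.2]).Nodup := by
    have e : (L.flatMap fun x => [x.1, x.2]) = (points S).map (Fin.ofNat 100) := by
      simp [L, finSwaps, points, List.map_flatMap, List.flatMap_map]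
    rw [e]
    refine hnd.map_on fun a ha b hb hab => ?_
    have lt : ∀ a ∈ points S, a < 100 := fun a ha => by
      obtain ⟨x, hx, hax⟩ := List.mem_flatMap.1 ha
      simp only [List.mem_cons, List.not_mem_nil, or_false] at hax
      rcases hax with rfl | rfl
      exacts [(hlt x hx).1, (hlt x hx).2]
    have := congrArg Fin.val hab
    simpa [Nat.mod_eq_of_lt (lt a ha), Nat.mod_eq_of_lt (lt b hb)] using this
  have hne : ∀ x ∈ L.reverse, x.1 ≠ x.2 := by
    intro x hx e
    obtain ⟨s, t, hst⟩ := List.append_of_mem (List.mem_reverse.1 hx)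
    rw [hst, List.flatMap_append, List.nodup_append, List.flatMap_cons] at hnd'
    have := hnd'.2.1
    simp [e] at this
  have hnd'' : (L.reverse.flatMap fun x => [x.1, x.2]).Nodup :=
    (List.Perm.nodup_iff (List.Perm.flatMap_right _ (List.reverse_perm L))).2 hnd'
  have hperm : (iota (piG y) : Equiv.Perm (Fin 100)) = (L.reverse.map fun x => Equiv.swap x.1 x.2).prod := by
    refine Equiv.ext fun i => Fin.ext ?_
    rw [hyg, Leech.HSAut.prod_apply, finSwaps_apply S hlt, hrun i i.2]
    exact gp_word W (letOK_lt hok) i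
  have hY := isLift_reflProd L.reverse hne
  rw [List.length_reverse, show L.length = 50 by rw [← hlen]; exact List.length_map _,
    show ((-1 : ℝ) ^ 50) = 1 by norm_num, ← hperm, iota_piG] at hY
  have hsq := reflProd_sq L.reverse hnd''
  rw [List.length_reverse, show L.length = 50 by rw [← hlen]; exact List.length_map _,
    sqSign_fifty, neg_one_smul] at hsq
  generalize reflProd L.reverse = Y at hY hsq
  obtain ⟨hinv, hinv'⟩ := mul_neg_of_sq hsq
  let u : cover 100 := ⟨⟨Y, -Y, hinv, hinv'⟩, _, (proj 100 y.1).2, hY⟩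
  have hu : proj 100 u = proj 100 y.1 :=
    Subtype.ext (isLift_unique hinv one_ne_zero (isLift_proj u) hY)
  have hu2 : u * u = negOne 100 := Subtype.ext (Units.ext hsq)
  have hd : u⁻¹ * y.1 ∈ Subgroup.zpowers (negOne 100) :=
    mem_zpowers_negOne (by rw [map_mul, map_inv, hu, inv_mul_cancel])
  obtain ⟨j, hj⟩ := Subgroup.mem_zpowers_iff.1 hd
  have hzc : negOne 100 ^ j ∈ Subgroup.center (cover 100) := zpow_mem negOne_mem_center j
  have hn2 : negOne 100 * negOne 100 = 1 := by
    have h := pow_orderOf_eq_one (negOne 100)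
    rwa [orderOf_negOne, sq] at h
  have hyy : y.1 * y.1 = negOne 100 := by
    rw [show y.1 = u * negOne 100 ^ j by rw [hj, mul_inv_cancel_left],
      Commute.mul_mul_mul_comm (Subgroup.mem_center_iff.1 hzc u).symm, hu2, ← zpow_add, ← two_mul,
      zpow_mul, zpow_two, hn2, one_zpow, mul_one]
  have : y * y = negC := Subtype.ext hyy
  rw [← this]
  exact mul_mem hy hy

theorem negC_mem_commutator : negC ∈ commutator Cover := by
  obtain ⟨hnd, hlen, hlt, hrun, hok⟩ := swapsB_check
  simp only [List.all_eq_true, List.mem_range, decide_eq_true_eq, beq_iff_eq] at hlt hrun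
  exact negC_mem_of_swaps swapsB wordB hnd hlen hlt hrun hok

theorem exists_stem : ∃ (Γ : Type) (_ : Group Γ) (_ : Finite Γ) (σ : Γ →* G),
    Cfsg.IsStemExtension σ ∧ Nonempty (σ.ker ≃* Multiplicative (ZMod 2)) := by
  refine ⟨Cover, inferInstance, inferInstance, piG, ⟨piG_surjective, ?_, ?_⟩, ?_⟩
  · rw [ker_piG, Subgroup.zpowers_le]; exact negC_mem_center
  · rw [ker_piG, Subgroup.zpowers_le]; exact negC_mem_commutator
  · haveI : Fact (Nat.Prime 2) := ⟨Nat.prime_two⟩
    haveI : IsCyclic piG.ker := isCyclic_of_prime_card card_ker_piG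
    exact ⟨(mulEquivOfCyclicCardEq (by rw [card_ker_piG]; simp))⟩

end Cfsg.Agent.HSMult13
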