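import Cfsg.Agent.HSMult13.Upper
import Cfsg.Agent.HSMult13.Lower
import Cfsg.Agent.HSRecognition.Leech
import Cfsg.Agent.Lib.Schur.Basic
import Cfsg.Prelude.Def_Spor_Conway

/-!
The Schur multiplier of the Higman–Sims group.
-/

set_option autoImplicit false

namespace Cfsg.Agent.HSMult13

theorem multiplier_G : Cfsg.HasCyclicSchurMultiplier G 2 := by
  obtain ⟨Γ, _, _, σ, hσ, ⟨e⟩⟩ := exists_stem
  refine Cfsg.Agent.Schur.hasSchurMultiplier_of_card_le σ hσ e fun Δ _ _ τ hτ => ?_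
  rw [show Nat.card (Multiplicative (ZMod 2)) = 2 by simp]
  exact card_ker_le τ hτ

theorem multiplier_HS : Cfsg.HasCyclicSchurMultiplier ↥Cfsg.Spor.HS 2 := by
  obtain ⟨f⟩ := Cfsg.Agent.HSRecognition.nonempty_HS_equiv_ker
  exact Cfsg.Agent.Schur.hasSchurMultiplier_congr f.symm multiplier_G

end Cfsg.Agent.HSMult13
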