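import Cfsg.Agent.HSMult13.Facts
import Cfsg.Agent.PresMult70.Sylow
import Cfsg.Agent.Lib.Golay.Mult.Tables

/-!
The odd part of the multiplier.
-/

set_option autoImplicit false
set_option maxRecDepth 100000

namespace Cfsg.Agent.HSMult13

open Cfsg.Agent.CosetEnum
open scoped commutatorElement

theorem sq_not_dvd {ℓ : ℕ} (hℓ : ℓ.Prime) (h2 : ℓ ≠ 2) (h3 : ℓ ≠ 3) (h5 : ℓ ≠ 5) :
    ¬ ℓ ^ 2 ∣ Nat.card G := by
  rw [card_G, show (44352000 : ℕ) = (2 ^ 9 * 3 ^ 2 * 5 ^ 3) * (7 * 11) by norm_num]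
  intro h
  have cop : ∀ q, q.Prime → ℓ ≠ q → Nat.Coprime ℓ q := fun q hq hne =>
    (Nat.coprime_primes hℓ hq).2 hne
  have hcop : Nat.Coprime (ℓ ^ 2) (2 ^ 9 * 3 ^ 2 * 5 ^ 3) :=
    ((Nat.Coprime.pow 2 9 (cop 2 Nat.prime_two h2)).mul_right
      (Nat.Coprime.pow 2 2 (cop 3 Nat.prime_three h3))).mul_right
      (Nat.Coprime.pow 2 3 (cop 5 Nat.prime_five h5))
  have h' := hcop.dvd_of_dvd_mul_left h
  have hd : ℓ ∣ 7 * 11 := (dvd_pow_self ℓ two_ne_zero).trans h'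
  rcases hℓ.dvd_mul.1 hd with hd | hd
  · rw [(Nat.prime_dvd_prime_iff_eq hℓ (by norm_num)).1 hd] at h'
    norm_num at h'
  · rw [(Nat.prime_dvd_prime_iff_eq hℓ (by norm_num)).1 hd] at h'
    norm_num at h'

theorem exists_local {Γ : Type} [Group Γ] (σ : Γ →* G) (hσ : Function.Surjective σ)
    (hc : σ.ker ≤ Subgroup.center Γ) {ℓ : ℕ} (hℓ : ℓ.Prime) (h2 : ℓ ≠ 2) :
    ∃ S : Subgroup G, ¬ ℓ ∣ S.index ∧ σ.ker ⊓ ⁅S.comap σ, S.comap σ⁆ = ⊥ := by
  by_cases h3 : ℓ = 3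
  · subst h3
    have h := three_check
    simp only [Bool.and_eq_true] at h
    obtain ⟨⟨⟨⟨⟨⟨⟨⟨e1, e2⟩, e3⟩, e4⟩, e5⟩, e6⟩, e7⟩, e8⟩, e9⟩ := h
    have a1 := eq_of_eqW e1
    have a2 := eq_of_eqW e2
    have a4 := eq_of_eqW e4
    have a8 := eq_of_eqW e8
    have a9 := eq_of_eqW e9
    rw [evalWord_repWord] at a1 a2
    rw [evalWord_append, evalWord_append] at a4
    rw [evalWord_conjW] at a8
    rw [evalWord_conjW, evalWord_append, ← sq] at a9
    refine PresMult70.criterion_abelian σ hσ hc (a := 1) (b := 2) Nat.prime_three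
      (u := evalWord ga u3) (v := evalWord ga v3) (h := evalWord ga h3) a1 a2 (ne_of_neW e3) a4 ?_
      (by rw [a8, pow_one]) a9 (by decide) (by rw [card_G]; norm_num)
    intro i hi
    interval_cases i
    · rw [pow_zero]; exact ne_of_neW e5
    · rw [pow_one]; exact ne_of_neW e6
    · rw [sq, ← evalWord_append]; exact ne_of_neW e7
  by_cases h5 : ℓ = 5
  · subst h5
    have h := five_check
    simp only [Bool.and_eq_true] at h
    obtain ⟨⟨⟨⟨⟨⟨⟨e1, e2⟩, e3⟩, e4⟩, e5⟩, e6⟩, e7⟩, e8⟩ := h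
    have a1 := eq_of_eqW e1
    have a2 := eq_of_eqW e2
    have a3 := ne_of_neW e3
    have a4 := eq_of_eqW e4
    have a5 := eq_of_eqW e5
    have a6 := eq_of_eqW e6
    have a7 := eq_of_eqW e7
    have a8 := eq_of_eqW e8
    rw [evalWord_repWord] at a1 a2
    rw [evalWord_comW] at a3
    simp only [evalWord_append, evalWord_comW] at a4 a5 a6
    rw [evalWord_conjW, evalWord_repWord] at a7 a8
    exact PresMult70.criterion_extraspecial σ hσ hc (a := 4) (b := 4) Nat.prime_five a1 a2 a3 a4 a5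
      a7 a8 a6 (by decide) (by decide) (by rw [card_G]; norm_num)
  exact Cfsg.Agent.Golay.Mult.exists_local_of_sq_not_dvd σ hσ hc hℓ (sq_not_dvd hℓ h2 h3 h5)

end Cfsg.Agent.HSMult13
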