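import Cfsg.Agent.HSMult13.Facts
import Cfsg.Agent.HSMult13.Cert1
import Cfsg.Agent.HSMult13.Cert2
import Cfsg.Agent.HSMult13.Cert3
import Cfsg.Agent.HSMult13.Cert4
import Cfsg.Agent.HSMult13.Cert5
import Cfsg.Agent.HSMult13.Cert6
import Cfsg.Agent.PresMult70.Exp2
import Cfsg.Agent.Lib.Golay.Mult.Local

/-!
Stem extensions with kernel of exponent two in which the lifts of two commuting
fixed-point-free involutions commute.
-/

set_option autoImplicit false
set_option maxRecDepth 100000

namespace Cfsg.Agent.HSMult13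

open Cfsg.Agent.CosetEnum
open scoped commutatorElement

variable {Δ : Type} [Group Δ] {τ : Δ →* G}

/-- The hypotheses on the extension. -/
structure Good (τ : Δ →* G) : Prop where
  sur : Function.Surjective τ
  cen : τ.ker ≤ Subgroup.center Δ
  sq : ∀ k, τ k = 1 → k * k = 1
  comm : ∀ B C, τ B = evalWord ga wordB → τ C = evalWord ga (conjW conjB wordB) → Commute B C

theorem evalWord_single (l : ℕ) : evalWord ga [l] = ga l := mul_one _

theorem Good.sq_zero (hg : Good τ) {U : Δ} (hU : τ U = evalWord ga [0]) : U * U = 1 := by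
  have hk := klein_check
  simp only [Bool.and_eq_true] at hk
  obtain ⟨⟨⟨h1, h2⟩, h3⟩, h4⟩ := hk
  have e1 := eq_of_eqW h1
  have e2 := eq_of_eqW h2
  have e3 := eq_of_eqW h3
  have e4 := eq_of_eqW h4
  rw [evalWord_conjW, ← hU] at e1 e2
  rw [evalWord_comW, evalWord_conjW, ← hU] at e3
  rw [evalWord_append, evalWord_comW, evalWord_conjW, ← hU] at e4
  obtain ⟨P, hP⟩ := hg.sur (evalWord ga kleinP)
  obtain ⟨Q, hQ⟩ := hg.sur (evalWord ga kleinQ)
  obtain ⟨H1, hH1⟩ := hg.sur (evalWord ga kleinV)
  obtain ⟨H2, hH2⟩ := hg.sur (evalWord ga kleinUV)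
  have hc1 : ∀ {p : G}, p * τ U * p⁻¹ = τ U → τ U * p * (τ U)⁻¹ = p := fun {p} h => by
    rw [mul_inv_eq_iff_eq_mul] at h ⊢
    exact h.symm
  have hcomm : Commute ⁅P, Q⁆ U := commutatorElement_eq_one_iff_mul_comm.1
    (Golay.Mult.comm_of_commutator τ hg.cen (map_commutatorElement τ P Q)
      (by rw [hP]; exact hc1 e1) (by rw [hQ]; exact hc1 e2))
  have hUU : τ (U * U) = 1 := by
    rw [map_mul, hU, evalWord_single]
    exact ga_sq 0
  have s1 : ⁅P, Q⁆ * ⁅P, Q⁆ = U * U := PresMult70.sq_conj τ hg.cen hg.sq (w := H1)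
    (by rw [map_commutatorElement, hP, hQ, e3, map_mul, map_mul, map_inv, hH1]) hUU
  have s2 : U * ⁅P, Q⁆ * (U * ⁅P, Q⁆) = U * U := PresMult70.sq_conj τ hg.cen hg.sq (w := H2)
    (by rw [map_mul, map_commutatorElement, hP, hQ, e4, map_mul, map_mul, map_inv, hH2]) hUU
  rw [hcomm.mul_mul_mul_comm, s1] at s2
  exact mul_eq_left.1 s2

theorem Good.sq_wordB (hg : Good τ) {B : Δ} (hB : τ B = evalWord ga wordB) : B * B = 1 := by
  have hk := pairB_check
  simp only [Bool.and_eq_true] at hk
  obtain ⟨⟨h1, -⟩, h3⟩ := hk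
  have e1 := eq_of_eqW h1
  have e3 := eq_of_eqW h3
  rw [evalWord_append] at e1 e3
  rw [evalWord_conjW, evalWord_conjW] at e3
  obtain ⟨H, hH⟩ := hg.sur (evalWord ga conjB)
  obtain ⟨H2, hH2⟩ := hg.sur (evalWord ga prodB)
  have hBB : τ (B * B) = 1 := by rw [map_mul, hB]; exact e1
  have hC : τ (H * B * H⁻¹) = evalWord ga (conjW conjB wordB) := by
    rw [evalWord_conjW, map_mul, map_mul, map_inv, hH, hB]
  have hcomm := hg.comm B (H * B * H⁻¹) hB hC
  have s1 : H * B * H⁻¹ * (H * B * H⁻¹) = B * B :=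
    PresMult70.sq_conj τ hg.cen hg.sq (w := H) rfl hBB
  have s2 : B * (H * B * H⁻¹) * (B * (H * B * H⁻¹)) = B * B :=
    PresMult70.sq_conj τ hg.cen hg.sq (w := H2)
      (by simp only [map_mul, map_inv, hH, hB, hH2]; exact e3) hBB
  rw [hcomm.symm.mul_mul_mul_comm, s1] at s2
  exact mul_eq_left.1 s2

theorem Good.sq_base (hg : Good τ) (b : Bool) {S : Δ} (hS : τ S = evalWord ga (baseW b)) :
    S * S = 1 := by
  cases b with
  | false => exact hg.sq_zero hS
  | true => exact hg.sq_wordB hS

theorem Good.adjust (hg : Good τ) (a y : Δ) (m : ℕ) (h : (τ a * τ y) ^ (2 * m + 1) = 1) :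
    ∃ y', τ y' = τ y ∧ (a * y') ^ (2 * m + 1) = 1 := by
  have hk : τ ((a * y) ^ (2 * m + 1)) = 1 := by rw [map_pow, map_mul, h]
  refine ⟨y * (a * y) ^ (2 * m + 1), by rw [map_mul, hk, mul_one], ?_⟩
  rw [← mul_assoc, PresMult70.mul_pow_odd τ hg.cen hg.sq hk]
  exact hg.sq _ hk

theorem even_image {X : ℕ → Δ} (hX : ∀ l, τ (X l) = ga l) (W : List ℕ) :
    τ (evalWord X W) = evalWord ga W := by
  rw [Glue.evalWord_hom τ X W]
  exact congrArg (fun f => evalWord f W) (funext hX)

theorem odd_eq : oddRels = [repWord [0, 1] 5, repWord [1, 2] 3, repWord [1, 3] 3, repWord [1, 4] 3,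
    repWord [1, 5] 3, repWord [1, 6] 3, repWord [0, 1, 2] 5] := by decide +kernel

theorem odd_ga {r : List ℕ} (h : r ∈ oddRels) : evalWord ga r = 1 :=
  eq_of_eqW (List.all_eq_true.1 odd_check r h)

theorem Good.exists_lifts (hg : Good τ) :
    ∃ X : ℕ → Δ, (∀ l, τ (X l) = ga l) ∧ ∀ r ∈ allRels, evalWord X r = 1 := by
  classical
  obtain ⟨x0, hx0⟩ := hg.sur (ga 0)
  have rel2 : ∀ i j n, repWord [i, j] n ∈ oddRels → (ga i * ga j) ^ n = 1 := fun i j n h => by
    have := odd_ga h
    rw [evalWord_repWord] at this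
    simpa [evalWord] using this
  have rel3 : (ga 0 * ga 1 * ga 2) ^ 5 = 1 := by
    have := odd_ga (r := repWord [0, 1, 2] 5) (by rw [odd_eq]; simp)
    rw [evalWord_repWord] at this
    simpa [evalWord, mul_assoc] using this
  obtain ⟨x1', hx1'⟩ := hg.sur (ga 1)
  obtain ⟨y1, hy1, p1⟩ := hg.adjust x0 x1' 2 (by
    rw [hx0, hx1']; exact rel2 0 1 5 (by rw [odd_eq]; simp))
  rw [hx1'] at hy1
  have stepj : ∀ j, ∃ y, τ y = ga j ∧ ((2 ≤ j ∧ j < 7) → (y1 * y) ^ 3 = 1) := by
    intro j
    obtain ⟨y, hy⟩ := hg.sur (ga j)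
    by_cases hj : 2 ≤ j ∧ j < 7
    · obtain ⟨y', hy', hp⟩ := hg.adjust y1 y 1 (by
        rw [hy1, hy]
        refine rel2 1 j 3 ?_
        obtain ⟨h1, h2⟩ := hj
        rw [odd_eq]
        interval_cases j <;> simp)
      exact ⟨y', hy'.trans hy, fun _ => hp⟩
    · exact ⟨y, hy, fun h => absurd h hj⟩
  choose y hy hyp using stepj
  set e := (x0 * y1 * y 2) ^ 5 with he
  have hek : τ e = 1 := by rw [he, map_pow, map_mul, map_mul, hx0, hy1, hy, rel3]
  have hec : ∀ z, Commute e z := J2Mult70.central_of τ hg.cen hek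
  have hee : e * e = 1 := hg.sq e hek
  have pair : ∀ a b : Δ, a * e * (b * e) = a * b := fun a b => by
    rw [Commute.mul_mul_mul_comm (hec b) a e, hee, mul_one]
  let X : ℕ → Δ := fun l =>
    if l < 7 then (if l = 0 then x0 else if l = 1 then y1 else y l) * e else 1
  have hX : ∀ l, τ (X l) = ga l := by
    intro l
    by_cases hl : l < 7
    · simp only [X, if_pos hl, map_mul, hek, mul_one]
      split_ifs with h0 h1
      · rw [h0, hx0]
      · rw [h1, hy1]
      · exact hy l
    · simp only [X, if_neg hl, map_one]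
      rw [ga, dif_neg hl]
  refine ⟨X, hX, fun r hr => ?_⟩
  rw [allRels, List.mem_append] at hr
  rcases hr with hr | hr
  · obtain ⟨d, hd, rfl⟩ := List.mem_map.1 hr
    have hc := eq_of_eqW (List.all_eq_true.1 even_check d hd)
    rw [evalWord_conjW, ← even_image hX (baseW d.2.2.1), ← even_image hX d.2.2.2, ← even_image hX,
      ← map_inv, ← map_mul, ← map_mul] at hc
    have hb := hg.sq_base d.2.2.1 (even_image hX (baseW d.2.2.1))
    have hs := PresMult70.sq_conj τ hg.cen hg.sq hc (by rw [hb, map_one])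
    rw [evenRel, evalWord_repWord, two_mul, pow_add, ← evalWord_repWord]
    rw [hb] at hs
    exact hs
  · rw [odd_eq] at hr
    simp only [List.mem_cons, List.not_mem_nil, or_false] at hr
    have hj : ∀ j, 2 ≤ j → j < 7 → evalWord X (repWord [1, j] 3) = 1 := by
      intro j h1 h2
      rw [evalWord_repWord]
      simp only [evalWord, mul_one, X, if_pos h2, if_neg (show j ≠ 0 by omega),
        if_neg (show j ≠ 1 by omega), if_pos (show 1 < 7 by norm_num), if_neg (show (1 : ℕ) ≠ 0 by norm_num),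
        if_true, pair]
      exact hyp j ⟨h1, h2⟩
    rcases hr with rfl | rfl | rfl | rfl | rfl | rfl | rfl
    · rw [evalWord_repWord]
      simp only [evalWord, mul_one, X, if_pos (show 0 < 7 by norm_num), if_pos (show 1 < 7 by norm_num),
        if_true, if_neg (show (1 : ℕ) ≠ 0 by norm_num), pair]
      exact p1
    · exact hj 2 (by norm_num) (by norm_num)
    · exact hj 3 (by norm_num) (by norm_num)
    · exact hj 4 (by norm_num) (by norm_num)
    · exact hj 5 (by norm_num) (by norm_num)
    · exact hj 6 (by norm_num) (by norm_num)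
    · rw [evalWord_repWord]
      have h3 : evalWord X [0, 1, 2] = x0 * y1 * y 2 * e := by
        simp only [evalWord, mul_one, X, if_pos (show 0 < 7 by norm_num),
          if_pos (show 1 < 7 by norm_num), if_pos (show 2 < 7 by norm_num), if_true,
          if_neg (show (1 : ℕ) ≠ 0 by norm_num), if_neg (show (2 : ℕ) ≠ 0 by norm_num),
          if_neg (show (2 : ℕ) ≠ 1 by norm_num)]
        rw [← mul_assoc (x0 * e), pair, ← mul_assoc]
      rw [h3, show (5 : ℕ) = 2 * 2 + 1 from rfl, PresMult70.mul_pow_odd τ hg.cen hg.sq hek]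
      exact hee

/-- The subgroup generated by an initial segment of the letters. -/
def sub (X : ℕ → Δ) (j : ℕ) : Subgroup Δ := Subgroup.closure (X '' Set.Iio j)

theorem sub_mono (X : ℕ → Δ) {i j : ℕ} (h : i ≤ j) : sub X i ≤ sub X j :=
  Subgroup.closure_mono (Set.image_mono (Set.Iio_subset_Iio h))

theorem evalWord_congr {X Y : ℕ → Δ} : ∀ W : List ℕ, (∀ l ∈ W, X l = Y l) →
    evalWord X W = evalWord Y W
  | [], _ => rfl
  | l :: W, h => by
    show X l * _ = Y l * _
    rw [h l List.mem_cons_self, evalWord_congr W fun x hx => h x (List.mem_cons_of_mem _ hx)]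

theorem evalWord_mem_sub (X : ℕ → Δ) (j : ℕ) : ∀ W : List ℕ, (∀ l ∈ W, l < j) →
    evalWord X W ∈ sub X j
  | [], _ => one_mem _
  | l :: W, h => mul_mem (Subgroup.subset_closure ⟨l, h l List.mem_cons_self, rfl⟩)
      (evalWord_mem_sub X j W fun x hx => h x (List.mem_cons_of_mem _ hx))

theorem level {S : Sys} {n D N : ℕ} (C : Cert S n D N) {X : ℕ → Δ}
    (hR : ∀ r ∈ allRels, evalWord X r = 1) (hsq : ∀ l < 7, X l * X l = 1) (j k : ℕ) (hk : k < 8)
    (hjk : j ≤ k) (hnl : S.nl = k) (hinv : allRange (fun l => Nat.beq (S.inv l) l) 0 (k + 1) = true)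
    {rels subs : List (List ℕ)} (hrules : S.rules.all (fun R => R.check S rels subs) = true)
    (hrels : rels.all (fun r => decide (r ∈ allRels) && r.all fun l => decide (l < k)) = true)
    (hsubs : subs.all (fun W => W.all fun l => decide (l < j)) = true) :
    (sub X j).relIndex (sub X k) ≠ 0 ∧ (sub X j).relIndex (sub X k) ≤ n := by
  simp only [List.all_eq_true, Bool.and_eq_true, decide_eq_true_eq] at hrels hsubs
  let val : ℕ → Δ := fun l => if l < k then X l else 1
  have hv : ∀ l < k, val l = X l := fun l hl => if_pos hl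
  have hL : Letters S val :=
    { ident := by simp [val, hnl]
      inv := fun l hl => by
        rw [Nat.eq_of_beq_eq_true (allRange_spec hinv l (Nat.zero_le _) (by omega))]
        symm
        apply inv_eq_of_mul_eq_one_right
        simp only [val]
        split_ifs with h
        · exact hsq l (by omega)
        · exact mul_one 1 }
  refine C.relIndex_le hL ?_ fun i => hL.valid ?_ ?_ (DTree.all_get hrules i)
  · refine Subgroup.closure_mono ?_
    rintro _ ⟨l, hl, rfl⟩
    exact ⟨l, (show l < S.nl by rw [hnl]; exact hl), hv l hl⟩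
  · intro W hW
    rw [evalWord_congr W fun l hl => hv l ((hrels W hW).2 l hl)]
    exact hR W (hrels W hW).1
  · intro W hW
    rw [evalWord_congr W fun l hl => hv l (lt_of_lt_of_le (hsubs W hW l hl) hjk)]
    exact evalWord_mem_sub X j W (hsubs W hW)

theorem square_check : ((List.range 7).all fun l => decide ([l, l] ∈ allRels)) = true := by
  decide +kernel

theorem Good.ker_eq_bot [Finite Δ] (hg : Good τ) (hst : Cfsg.IsStemExtension τ) : τ.ker = ⊥ := by
  obtain ⟨X, hX, hR⟩ := hg.exists_lifts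
  have hsq : ∀ l < 7, X l * X l = 1 := fun l hl => by
    have := hR _ (of_decide_eq_true (List.all_eq_true.1 square_check l (List.mem_range.2 hl)))
    simpa [evalWord] using this
  have l1 := level cert1 hR hsq 0 2 (by norm_num) (by norm_num) rfl invs1 rules1
    (by decide +kernel) (by decide +kernel)
  have l2 := level cert2 hR hsq 2 3 (by norm_num) (by norm_num) rfl invs2 rules2
    (by decide +kernel) (by decide +kernel)
  have l3 := level cert3 hR hsq 3 4 (by norm_num) (by norm_num) rfl invs3 rules3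
    (by decide +kernel) (by decide +kernel)
  have l4 := level cert4 hR hsq 4 5 (by norm_num) (by norm_num) rfl invs4 rules4
    (by decide +kernel) (by decide +kernel)
  have l5 := level cert5 hR hsq 5 6 (by norm_num) (by norm_num) rfl invs5 rules5
    (by decide +kernel) (by decide +kernel)
  have l6 := level cert6 hR hsq 6 7 (by norm_num) (by norm_num) rfl invs6 rules6
    (by decide +kernel) (by decide +kernel)
  have h0 : sub X 0 = ⊥ := by simp [sub]
  have hcard : Nat.card (sub X 7) ≤ 44352000 := by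
    rw [← Subgroup.relIndex_bot_left, ← h0,
      ← Subgroup.relIndex_mul_relIndex (sub X 0) (sub X 6) (sub X 7) (sub_mono X (by norm_num))
        (sub_mono X (by norm_num)),
      ← Subgroup.relIndex_mul_relIndex (sub X 0) (sub X 5) (sub X 6) (sub_mono X (by norm_num))
        (sub_mono X (by norm_num)),
      ← Subgroup.relIndex_mul_relIndex (sub X 0) (sub X 4) (sub X 5) (sub_mono X (by norm_num))
        (sub_mono X (by norm_num)),
      ← Subgroup.relIndex_mul_relIndex (sub X 0) (sub X 3) (sub X 4) (sub_mono X (by norm_num))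
        (sub_mono X (by norm_num)),
      ← Subgroup.relIndex_mul_relIndex (sub X 0) (sub X 2) (sub X 3) (sub_mono X (by norm_num))
        (sub_mono X (by norm_num)),
      show (44352000 : ℕ) = 10 * 6 * 6 * 7 * 50 * 352 by norm_num]
    exact Nat.mul_le_mul (Nat.mul_le_mul (Nat.mul_le_mul (Nat.mul_le_mul (Nat.mul_le_mul l1.2 l2.2)
      l3.2) l4.2) l5.2) l6.2
  let f : sub X 7 →* G := τ.comp (sub X 7).subtype
  have hf : Function.Surjective f := by
    intro g
    have hmap : (sub X 7).map τ = ⊤ := by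
      rw [sub, MonoidHom.map_closure, Set.image_image, ← closure_ga]
      exact congrArg Subgroup.closure (Set.image_congr fun l _ => hX l)
    obtain ⟨x, hx, hxg⟩ := (Subgroup.mem_map.1 (hmap ▸ Subgroup.mem_top g : g ∈ (sub X 7).map τ))
    exact ⟨⟨x, hx⟩, hxg⟩
  have hbij : Function.Bijective f := (Nat.bijective_iff_surjective_and_card f).2
    ⟨hf, le_antisymm (by rw [card_G]; exact hcard) (Nat.card_le_card_of_surjective f hf)⟩
  exact PresMult70.ker_eq_bot_of_section τ hst
    ((sub X 7).subtype.comp (MulEquiv.ofBijective f hbij).symm.toMonoidHom)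
    fun g => (MulEquiv.ofBijective f hbij).apply_symm_apply g

end Cfsg.Agent.HSMult13
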