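import Cfsg.Agent.HSMult13.Odd
import Cfsg.Agent.HSMult13.Two
import Cfsg.Agent.Lib.Schur.Basic

/-!
The multiplier has order at most two.
-/

set_option autoImplicit false
set_option maxRecDepth 100000

namespace Cfsg.Agent.HSMult13

open Cfsg.Agent.CosetEnum
open scoped commutatorElement

theorem card_ker_le {Γ : Type} [Group Γ] [Finite Γ] (σ : Γ →* G)
    (hσ : Cfsg.IsStemExtension σ) : Nat.card σ.ker ≤ 2 := by
  have hcen : ∀ {k}, k ∈ σ.ker → ∀ w, Commute k w :=
    fun hk w => (Subgroup.mem_center_iff.mp (hσ.2.1 hk) w).symm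
  obtain ⟨B, hB⟩ := hσ.1 (evalWord ga wordB)
  obtain ⟨C, hC⟩ := hσ.1 (evalWord ga (conjW conjB wordB))
  have hk := pairB_check
  simp only [Bool.and_eq_true] at hk
  obtain ⟨⟨h1, h2⟩, -⟩ := hk
  have e1 := eq_of_eqW h1
  have e2 := eq_of_eqW h2
  rw [evalWord_append, ← hB] at e1
  rw [evalWord_append, evalWord_append, ← hB, ← hC] at e2
  set c := ⁅B, C⁆ with hcd
  have hck : c ∈ σ.ker := by
    rw [MonoidHom.mem_ker, hcd, map_commutatorElement]
    exact commutatorElement_eq_one_iff_mul_comm.2 e2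
  have hc2 : c * c = 1 := by
    have hBB : B * B ∈ σ.ker := by rw [MonoidHom.mem_ker, map_mul]; exact e1
    have hBc : B * C * B⁻¹ = c * C := by rw [hcd, commutatorElement_def]; group
    have h : B * B * C * (B * B)⁻¹ = c * c * C := by
      calc B * B * C * (B * B)⁻¹ = B * (B * C * B⁻¹) * B⁻¹ := by group
        _ = B * (c * C) * B⁻¹ := by rw [hBc]
        _ = B * c * B⁻¹ * (B * C * B⁻¹) := by group
        _ = c * c * C := by rw [hBc, ← (hcen hck B).eq]; group
    rw [(hcen hBB C).eq, mul_inv_cancel_right] at h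
    exact mul_eq_right.1 h.symm
  -- squares and powers of the commutator
  let M : Subgroup Γ :=
    { carrier := {z | ∃ k ∈ σ.ker, ∃ j : ℕ, k * k * c ^ j = z}
      one_mem' := ⟨1, one_mem _, 0, by simp⟩
      mul_mem' := by
        rintro _ _ ⟨k, hk, i, rfl⟩ ⟨l, hl, j, rfl⟩
        refine ⟨k * l, mul_mem hk hl, i + j, ?_⟩
        rw [(hcen hl k).mul_mul_mul_comm k l, pow_add,
          Commute.mul_mul_mul_comm ((hcen (pow_mem hck i) (l * l)))]
      inv_mem' := by
        rintro _ ⟨k, hk, i, rfl⟩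
        refine ⟨k⁻¹, inv_mem hk, i, ?_⟩
        rw [mul_inv_rev, ← (hcen (inv_mem (pow_mem hck i)) _).symm.eq]
        have : (c ^ i)⁻¹ = c ^ i := inv_eq_of_mul_eq_one_right (by
          rw [← (Commute.refl c).mul_pow, hc2, one_pow])
        rw [this, mul_inv_rev] }
  have hMk : M ≤ σ.ker := by
    rintro _ ⟨k, hk, i, rfl⟩
    exact mul_mem (mul_mem hk hk) (pow_mem hck i)
  haveI hMn : M.Normal := ⟨fun n hn g => by
    rw [← (hcen (hMk hn) g).eq, mul_assoc, mul_inv_cancel, mul_one]; exact hn⟩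
  let τ : Γ ⧸ M →* G := QuotientGroup.lift M σ hMk
  have hmk : ∀ x : Γ, τ (QuotientGroup.mk' M x) = σ x := fun x => rfl
  have hst : Cfsg.IsStemExtension τ := by
    refine ⟨fun g => ?_, fun q hq => ?_, fun q hq => ?_⟩
    · obtain ⟨x, hx⟩ := hσ.1 g; exact ⟨QuotientGroup.mk' M x, hx⟩
    · obtain ⟨x, rfl⟩ := QuotientGroup.mk'_surjective M q
      rw [MonoidHom.mem_ker, hmk] at hq
      rw [Subgroup.mem_center_iff]
      intro r
      obtain ⟨y, rfl⟩ := QuotientGroup.mk'_surjective M r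
      rw [← map_mul, ← map_mul, (hcen hq y).eq]
    · obtain ⟨x, rfl⟩ := QuotientGroup.mk'_surjective M q
      rw [MonoidHom.mem_ker, hmk] at hq
      have := Subgroup.mem_map_of_mem (QuotientGroup.mk' M) (hσ.2.2 hq)
      rw [commutator_def, Subgroup.map_commutator] at this
      exact Subgroup.commutator_mono le_top le_top this
  have hg : Good τ := by
    refine ⟨hst.1, hst.2.1, ?_, ?_⟩
    · intro q hq
      obtain ⟨x, rfl⟩ := QuotientGroup.mk'_surjective M q
      rw [← map_mul, QuotientGroup.mk'_apply, QuotientGroup.eq_one_iff]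
      exact ⟨x, hq, 0, by simp⟩
    · intro B' C' hB' hC'
      refine PresMult70.commute_of_eq τ hst.2.1 (x := QuotientGroup.mk' M B)
        (y := QuotientGroup.mk' M C) (hB'.trans hB.symm) (hC'.trans hC.symm) ?_
      apply commutatorElement_eq_one_iff_mul_comm.1
      rw [← map_commutatorElement, QuotientGroup.mk'_apply, QuotientGroup.eq_one_iff]
      exact ⟨1, one_mem _, 1, by rw [one_mul, one_mul, pow_one]⟩
  have hbot := hg.ker_eq_bot hst
  have honto : ∀ z ∈ σ.ker, ∃ k ∈ σ.ker, ∃ j : ℕ, k * k * c ^ j = z := by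
    intro z hz
    have : QuotientGroup.mk' M z ∈ τ.ker := hz
    rw [hbot, Subgroup.mem_bot, QuotientGroup.mk'_apply, QuotientGroup.eq_one_iff] at this
    exact this
  have hiter : ∀ (n : ℕ), ∀ z ∈ σ.ker, ∃ k ∈ σ.ker, ∃ j : ℕ, k ^ 2 ^ n * c ^ j = z := by
    intro n
    induction n with
    | zero => exact fun z hz => ⟨z, hz, 0, by simp⟩
    | succ n ih =>
      intro z hz
      obtain ⟨k, hk, j, rfl⟩ := ih z hz
      obtain ⟨l, hl, i, rfl⟩ := honto k hk
      refine ⟨l, hl, i * 2 ^ n + j, ?_⟩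
      rw [Commute.mul_pow (hcen (pow_mem hck i) (l * l)).symm, ← sq, ← pow_mul, ← pow_mul,
        pow_succ' 2 n, pow_add, mul_assoc]
  have h2 : ∀ z ∈ σ.ker, ∃ m : ℕ, z ^ 2 ^ m = 1 := by
    intro z hz
    refine ⟨(orderOf z).primeFactorsList.length, ?_⟩
    have h : orderOf z = 2 ^ (orderOf z).primeFactorsList.length := by
      refine Nat.eq_prime_pow_of_unique_prime_dvd (orderOf_pos z).ne' ?_
      intro ℓ hℓ hdvd
      by_contra hne
      obtain ⟨S, hS, hSH⟩ := exists_local σ hσ.1 hσ.2.1 hℓ hne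
      set w := z ^ (orderOf z / ℓ)
      have hord : orderOf w = ℓ := orderOf_pow_orderOf_div (orderOf_pos z).ne' hdvd
      have hw : w ∈ σ.ker := pow_mem hz _
      have : (S.comap σ).FiniteIndex := inferInstance
      have hmem := Cfsg.Agent.Schur.pow_index_mem_commutator (S.comap σ) (hσ.2.1 hw) (hσ.2.2 hw)
      rw [Subgroup.map_subtype_commutator, Subgroup.index_comap_of_surjective S hσ.1] at hmem
      have h' : w ^ S.index ∈ σ.ker ⊓ ⁅S.comap σ, S.comap σ⁆ := ⟨pow_mem hw _, hmem⟩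
      rw [hSH, Subgroup.mem_bot] at h'
      exact hS (hord ▸ orderOf_dvd_of_pow_eq_one h')
    rw [← h, pow_orderOf_eq_one]
  have hle : σ.ker ≤ Subgroup.zpowers c := by
    intro z hz
    obtain ⟨n, hn⟩ : ∃ n, ∀ k ∈ σ.ker, k ^ 2 ^ n = 1 := by
      classical
      haveI := Fintype.ofFinite σ.ker
      choose f hf using h2
      refine ⟨∑ k : σ.ker, f k.1 k.2, fun k hk => ?_⟩
      obtain ⟨d, hd⟩ := Nat.exists_eq_add_of_le
        (Finset.single_le_sum (f := fun k : σ.ker => f k.1 k.2) (fun _ _ => Nat.zero_le _)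
          (Finset.mem_univ (⟨k, hk⟩ : σ.ker)))
      rw [hd, pow_add, pow_mul, hf k hk, one_pow]
    obtain ⟨k, hk, j, rfl⟩ := hiter n z hz
    rw [hn k hk, one_mul]
    exact Subgroup.npow_mem_zpowers c j
  refine (Subgroup.card_le_of_le hle).trans ?_
  rw [Nat.card_zpowers]
  exact Nat.le_of_dvd two_pos (orderOf_dvd_of_pow_eq_one (by rw [sq, hc2]))

end Cfsg.Agent.HSMult13
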